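import Mathlib

/-!
# The determinant of a product of endomorphisms of a dependent family of modules
-/

set_option autoImplicit false

universe u v w

namespace Cfsg.Agent.SLk

open Module

section

variable {R : Type u} [CommRing R]

/-- `Equiv.piSplitAt` as a linear equivalence. -/
def piSplitAtL {ι : Type v} [DecidableEq ι] (i : ι) (M : ι → Type w) [∀ j, AddCommGroup (M j)]
    [∀ j, Module R (M j)] : (∀ j, M j) ≃ₗ[R] M i × ∀ j : {j // j ≠ i}, M j :=
  { Equiv.piSplitAt i M with
    map_add' := fun _ _ => rfl
    map_smul' := fun _ _ => rfl }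

theorem piSplitAtL_apply {ι : Type v} [DecidableEq ι] (i : ι) (M : ι → Type w)
    [∀ j, AddCommGroup (M j)] [∀ j, Module R (M j)] (v : ∀ j, M j) :
    piSplitAtL (R := R) i M v = (v i, fun j : {j // j ≠ i} => v j) := rfl

/-- The coordinatewise map on a dependent product. -/
def piMapL {ι : Type v} {M : ι → Type w} [∀ j, AddCommGroup (M j)] [∀ j, Module R (M j)]
    (f : ∀ j, M j →ₗ[R] M j) : (∀ j, M j) →ₗ[R] (∀ j, M j) :=
  LinearMap.pi fun j => (f j).comp (LinearMap.proj j)

theorem piMapL_apply {ι : Type v} {M : ι → Type w} [∀ j, AddCommGroup (M j)] [∀ j, Module R (M j)]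
    (f : ∀ j, M j →ₗ[R] M j) (v : ∀ j, M j) (j : ι) : piMapL f v j = f j (v j) := rfl

theorem det_piMapL_aux (n : ℕ) : ∀ (ι : Type v) [Fintype ι] [DecidableEq ι] (M : ι → Type w)
    [∀ j, AddCommGroup (M j)] [∀ j, Module R (M j)] [∀ j, Module.Free R (M j)]
    [∀ j, Module.Finite R (M j)] (f : ∀ j, M j →ₗ[R] M j), Fintype.card ι = n →
    LinearMap.det (piMapL f) = ∏ j, LinearMap.det (f j) := by
  induction n with
  | zero =>
    intro ι _ _ M _ _ _ _ f hcard
    have hemp : IsEmpty ι := Fintype.card_eq_zero_iff.mp hcard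
    rw [Finset.univ_eq_empty, Finset.prod_empty]
    have : piMapL f = LinearMap.id := by
      apply LinearMap.ext
      intro v
      funext j
      exact (hemp.false j).elim
    rw [this, LinearMap.det_id]
  | succ n ih =>
    intro ι _ _ M _ _ _ _ f hcard
    have hne : Nonempty ι := by
      rw [← Fintype.card_pos_iff]; omega
    obtain ⟨i0⟩ := hne
    have hcard' : Fintype.card {j // j ≠ i0} = n := by
      rw [Fintype.card_subtype_compl, Fintype.card_subtype_eq, hcard]
      omega
    have h1 := ih {j // j ≠ i0} (fun j => M j) (fun j => f j) hcard'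
    set e := (piSplitAtL (R := R) i0 M).symm with he
    have h2 : piMapL f = (e : _ →ₗ[R] _) ∘ₗ
        (LinearMap.prodMap (f i0) (piMapL (fun j : {j // j ≠ i0} => f j))) ∘ₗ
          (e.symm : _ →ₗ[R] _) := by
      apply LinearMap.ext
      intro v
      apply e.symm.injective
      simp only [LinearMap.coe_comp, LinearEquiv.coe_coe, Function.comp_apply,
        LinearEquiv.symm_apply_apply]
      rfl
    rw [h2, LinearMap.det_conj, LinearMap.det_prodMap, h1,
      Fintype.prod_eq_mul_prod_subtype_ne _ i0]

/-- The determinant of a coordinatewise map is the product of the determinants. -/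
theorem det_piMapL {ι : Type v} [Fintype ι] {M : ι → Type w}
    [∀ j, AddCommGroup (M j)] [∀ j, Module R (M j)] [∀ j, Module.Free R (M j)]
    [∀ j, Module.Finite R (M j)] (f : ∀ j, M j →ₗ[R] M j) :
    LinearMap.det (piMapL f) = ∏ j, LinearMap.det (f j) := by
  classical
  exact det_piMapL_aux _ ι M f rfl

end

end Cfsg.Agent.SLk
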