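import Mathlib

/-!
# The determinant of multiplication by a polynomial on `F[X]/(f)`
-/

set_option autoImplicit false

universe u

namespace Cfsg.Agent.SLk

open Polynomial

variable {F : Type u} [Field F]

/-- Multiplication by `h` on `F[X]/(f)`, as an `F`-linear map. -/
noncomputable def mulQ (f h : F[X]) : (F[X] ⧸ Ideal.span {f}) →ₗ[F] (F[X] ⧸ Ideal.span {f}) :=
  (LinearMap.lsmul F[X] (F[X] ⧸ Ideal.span {f}) h).restrictScalars F

theorem mulQ_apply (f h : F[X]) (y : F[X] ⧸ Ideal.span {f}) : mulQ f h y = h • y := rfl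

/-- The determinant of multiplication by `h` on `F[X]/(f)`. -/
noncomputable def mu (f h : F[X]) : F := LinearMap.det (mulQ f h)

theorem finite_quot (f : F[X]) (hf : f ≠ 0) : Module.Finite F (F[X] ⧸ Ideal.span {f}) :=
  (AdjoinRoot.powerBasis hf).finite

/-- Intertwined endomorphisms have the same determinant. -/
theorem det_eq_of_intertwine {V V' : Type*} [AddCommGroup V] [Module F V] [AddCommGroup V']
    [Module F V'] (e : V ≃ₗ[F] V') (f : V →ₗ[F] V) (f' : V' →ₗ[F] V')
    (h : ∀ x, e (f x) = f' (e x)) : LinearMap.det f' = LinearMap.det f := by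
  have : f' = (e : V →ₗ[F] V') ∘ₗ f ∘ₗ (e.symm : V' →ₗ[F] V) := by
    apply LinearMap.ext
    intro y
    simp only [LinearMap.coe_comp, LinearEquiv.coe_coe, Function.comp_apply]
    rw [h, LinearEquiv.apply_symm_apply]
  rw [this, LinearMap.det_conj]

theorem mu_mul (a b h : F[X]) (ha : a ≠ 0) (hb : b ≠ 0) : mu (a * b) h = mu a h * mu b h := by
  classical
  have : Module.Finite F (F[X] ⧸ Ideal.span {a * b}) := finite_quot _ (mul_ne_zero ha hb)
  have : Module.Finite F (F[X] ⧸ Ideal.span {a}) := finite_quot _ ha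
  have : Module.Finite F (F[X] ⧸ Ideal.span {b}) := finite_quot _ hb
  -- the projection
  have hle : (Ideal.span {a * b} : Ideal F[X]) ≤ Submodule.comap
      (LinearMap.id : F[X] →ₗ[F[X]] F[X]) (Ideal.span {a} : Ideal F[X]) := by
    intro z hz
    rw [Submodule.mem_comap, LinearMap.id_apply, Ideal.mem_span_singleton]
    rw [Ideal.mem_span_singleton] at hz
    exact (dvd_mul_right a b).trans hz
  set πX : (F[X] ⧸ Ideal.span {a * b}) →ₗ[F[X]] (F[X] ⧸ Ideal.span {a}) :=
    Submodule.mapQ _ _ LinearMap.id hle with hπX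
  set π : (F[X] ⧸ Ideal.span {a * b}) →ₗ[F] (F[X] ⧸ Ideal.span {a}) :=
    πX.restrictScalars F with hπ
  have hπmk : ∀ z : F[X], π (Ideal.Quotient.mk _ z) = Ideal.Quotient.mk _ z := fun z => rfl
  have hπsurj : Function.Surjective π := by
    intro y
    obtain ⟨z, rfl⟩ := Ideal.Quotient.mk_surjective y
    exact ⟨Ideal.Quotient.mk _ z, rfl⟩
  -- the inclusion
  have hle' : (Ideal.span {b} : Ideal F[X]) ≤ Submodule.comap
      (LinearMap.lsmul F[X] F[X] a) (Ideal.span {a * b} : Ideal F[X]) := by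
    intro z hz
    rw [Submodule.mem_comap, LinearMap.lsmul_apply, smul_eq_mul, Ideal.mem_span_singleton]
    rw [Ideal.mem_span_singleton] at hz
    exact mul_dvd_mul_left a hz
  set ιX : (F[X] ⧸ Ideal.span {b}) →ₗ[F[X]] (F[X] ⧸ Ideal.span {a * b}) :=
    Submodule.mapQ _ _ (LinearMap.lsmul F[X] F[X] a) hle' with hιX
  set ι : (F[X] ⧸ Ideal.span {b}) →ₗ[F] (F[X] ⧸ Ideal.span {a * b}) :=
    ιX.restrictScalars F with hι
  have hιmk : ∀ z : F[X], ι (Ideal.Quotient.mk _ z) = Ideal.Quotient.mk _ (a * z) := fun z => rfl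
  have hιinj : Function.Injective ι := by
    rw [← LinearMap.ker_eq_bot, LinearMap.ker_eq_bot']
    intro y hy
    obtain ⟨z, rfl⟩ := Ideal.Quotient.mk_surjective y
    rw [hιmk, Ideal.Quotient.eq_zero_iff_mem, Ideal.mem_span_singleton] at hy
    rw [Ideal.Quotient.eq_zero_iff_mem, Ideal.mem_span_singleton]
    exact (mul_dvd_mul_iff_left ha).mp hy
  have hexact : LinearMap.range ι = LinearMap.ker π := by
    ext x
    rw [LinearMap.mem_range, LinearMap.mem_ker]
    constructor
    · rintro ⟨y, rfl⟩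
      obtain ⟨z, rfl⟩ := Ideal.Quotient.mk_surjective y
      rw [hιmk, hπmk, Ideal.Quotient.eq_zero_iff_mem, Ideal.mem_span_singleton]
      exact dvd_mul_right a z
    · intro hx
      obtain ⟨z, rfl⟩ := Ideal.Quotient.mk_surjective x
      rw [hπmk, Ideal.Quotient.eq_zero_iff_mem, Ideal.mem_span_singleton] at hx
      obtain ⟨z', rfl⟩ := hx
      exact ⟨Ideal.Quotient.mk _ z', hιmk z'⟩
  set W := LinearMap.ker π with hW
  have he : W ≤ W.comap (mulQ (a * b) h) := by
    intro x hx
    rw [Submodule.mem_comap, hW, LinearMap.mem_ker, mulQ_apply]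
    rw [hW, LinearMap.mem_ker] at hx
    have : π (h • x) = h • π x := map_smul πX h x
    rw [this, hx, smul_zero]
  have hdet := LinearMap.det_eq_det_mul_det W (mulQ (a * b) h) he
  -- the sub part
  set e1 : (F[X] ⧸ Ideal.span {b}) ≃ₗ[F] W :=
    (LinearEquiv.ofInjective ι hιinj).trans (LinearEquiv.ofEq _ _ hexact) with he1
  have h1 : LinearMap.det ((mulQ (a * b) h).restrict he) = mu b h := by
    unfold mu
    apply det_eq_of_intertwine e1
    intro x
    apply Subtype.ext
    show ι (h • x) = h • ι x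
    exact map_smul ιX h x
  -- the quotient part
  set e2 : ((F[X] ⧸ Ideal.span {a * b}) ⧸ W) ≃ₗ[F] (F[X] ⧸ Ideal.span {a}) :=
    LinearMap.quotKerEquivOfSurjective π hπsurj with he2
  have h2 : LinearMap.det (W.mapQ W (mulQ (a * b) h) he) = mu a h := by
    unfold mu
    symm
    apply det_eq_of_intertwine e2
    intro x
    obtain ⟨y, rfl⟩ := Submodule.Quotient.mk_surjective W x
    show π (h • y) = h • π y
    exact map_smul πX h y
  unfold mu at *
  rw [hdet, h1, h2, mul_comm]

theorem mu_one_left (h : F[X]) : mu (1 : F[X]) h = 1 := by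
  unfold mu
  have : Subsingleton (F[X] ⧸ Ideal.span {(1 : F[X])}) := by
    rw [Ideal.span_singleton_one]
    exact Ideal.Quotient.subsingleton_iff.mpr rfl
  have : mulQ (1 : F[X]) h = LinearMap.id := Subsingleton.elim _ _
  rw [this, LinearMap.det_id]

theorem mu_pow (p h : F[X]) (hp : p ≠ 0) (e : ℕ) : mu (p ^ e) h = mu p h ^ e := by
  induction e with
  | zero => rw [pow_zero, pow_zero, mu_one_left]
  | succ e ih => rw [pow_succ, mu_mul _ _ _ (pow_ne_zero _ hp) hp, ih, pow_succ]

theorem mu_one_right (f : F[X]) : mu f 1 = 1 := by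
  unfold mu
  have : mulQ f 1 = LinearMap.id := by
    apply LinearMap.ext
    intro y
    rw [mulQ_apply, one_smul, LinearMap.id_apply]
  rw [this, LinearMap.det_id]

/-- The identity, as a linear equivalence between `F[X]/(f)` and `AdjoinRoot f`. -/
noncomputable def toAdjoinRoot (f : F[X]) : (F[X] ⧸ Ideal.span {f}) ≃ₗ[F] AdjoinRoot f where
  toFun x := x
  invFun x := x
  map_add' _ _ := rfl
  map_smul' _ _ := rfl
  left_inv _ := rfl
  right_inv _ := rfl

theorem mu_eq_norm (f h : F[X]) : mu f h = Algebra.norm F (AdjoinRoot.mk f h) := by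
  unfold mu
  rw [Algebra.norm_apply]
  symm
  apply det_eq_of_intertwine (toAdjoinRoot f)
  intro x
  obtain ⟨z, rfl⟩ := Ideal.Quotient.mk_surjective x
  rfl

theorem mu_X (f : F[X]) (hf : f.Monic) : mu f X = (-1) ^ f.natDegree * f.coeff 0 := by
  rw [mu_eq_norm]
  have h := Algebra.PowerBasis.norm_gen_eq_coeff_zero_minpoly (AdjoinRoot.powerBasis hf.ne_zero)
  rw [AdjoinRoot.powerBasis_gen, AdjoinRoot.powerBasis_dim,
    AdjoinRoot.minpoly_root hf.ne_zero, hf.leadingCoeff, inv_one, C_1, mul_one] at h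
  rw [AdjoinRoot.mk_X]
  exact h

theorem exists_mu_eq [Finite F] (p : F[X]) (hp : Irreducible p) (a : F) : ∃ h : F[X], mu p h = a := by
  have : Fact (Irreducible p) := ⟨hp⟩
  have : Module.Finite F (AdjoinRoot p) := (AdjoinRoot.powerBasis hp.ne_zero).finite
  have : Finite (AdjoinRoot p) := Module.finite_of_finite F
  obtain ⟨x, hx⟩ := FiniteField.norm_surjective F (AdjoinRoot p) a
  obtain ⟨h, rfl⟩ := AdjoinRoot.mk_surjective x
  exact ⟨h, by rw [mu_eq_norm, hx]⟩

end Cfsg.Agent.SLk
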