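import Cfsg.Agent.Lib.SLk.Defs
import Cfsg.Agent.Lib.SLk.DetPi
import Cfsg.Agent.Lib.SLk.MulDet

/-!
# S2479: the determinant formula (A1) and determinants of centralizing elements
-/

set_option autoImplicit false

universe u

namespace Cfsg.Agent.SLk

open Polynomial Module Cfsg.Agent.S2478L

variable {F : Type u} [Field F]

section data

variable {n : ℕ} (g : GL (Fin n) F) {ι : Type u} [Fintype ι] (d : ι → F[X] × ℕ)

/-- The `F`-linear identification of `F^n` with the product of cyclic modules. -/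
noncomputable def EF (E : Mod g ≃ₗ[F[X]] ∀ i, Q (d i)) : (Fin n → F) ≃ₗ[F] ∀ i, Q (d i) :=
  (AEval'.of (Matrix.mulVecLin (g : Matrix (Fin n) (Fin n) F))).trans (E.restrictScalars F)

theorem EF_mulVec (E : Mod g ≃ₗ[F[X]] ∀ i, Q (d i)) (x : Fin n → F) :
    EF g d E (Matrix.mulVecLin (g : Matrix (Fin n) (Fin n) F) x) = (X : F[X]) • EF g d E x := by
  simp only [EF, LinearEquiv.trans_apply, LinearEquiv.restrictScalars_apply]
  rw [← AEval'.X_smul_of, map_smul]

/-- Coordinatewise multiplication by polynomials. -/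
noncomputable def Psi (c : ι → F[X]) : (∀ i, Q (d i)) →ₗ[F] (∀ i, Q (d i)) :=
  piMapL (fun i => mulQ ((d i).1 ^ (d i).2) (c i))

theorem Psi_apply (c : ι → F[X]) (v : ∀ i, Q (d i)) (i : ι) : Psi d c v i = c i • v i := rfl

theorem det_Psi (hd : ∀ i, (d i).1 ≠ 0) (c : ι → F[X]) :
    LinearMap.det (Psi d c) = ∏ i, mu ((d i).1 ^ (d i).2) (c i) := by
  have : ∀ i, Module.Finite F (F[X] ⧸ Ideal.span {(d i).1 ^ (d i).2}) :=
    fun i => finite_quot _ (pow_ne_zero _ (hd i))
  exact det_piMapL _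

theorem det_mulVecLin (M : Matrix (Fin n) (Fin n) F) :
    LinearMap.det (Matrix.mulVecLin M) = M.det := by
  rw [← Matrix.toLin'_apply']
  exact LinearMap.det_toLin' _

/-- **A1** for arbitrary data. -/
theorem det_eq_of_data (E : Mod g ≃ₗ[F[X]] ∀ i, Q (d i)) (hd : IsData d n) :
    (g : Matrix (Fin n) (Fin n) F).det = (-1) ^ n * delta (eps d n) := by
  classical
  have h2 : LinearMap.det (Psi d (fun _ => X)) =
      LinearMap.det (Matrix.mulVecLin (g : Matrix (Fin n) (Fin n) F)) := by
    symm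
    apply det_eq_of_intertwine (EF g d E).symm
    intro v
    apply (EF g d E).injective
    rw [EF_mulVec, LinearEquiv.apply_symm_apply, LinearEquiv.apply_symm_apply]
    rfl
  rw [← det_mulVecLin, ← h2, det_Psi d (fun i => (hd.monic i).ne_zero)]
  have h3 : ∀ i, mu ((d i).1 ^ (d i).2) X =
      (-1) ^ ((d i).2 * (d i).1.natDegree) * ((d i).1.coeff 0) ^ (d i).2 := by
    intro i
    rw [mu_X _ ((hd.monic i).pow _), (hd.monic i).natDegree_pow, coeff_zero_eq_eval_zero,
      eval_pow, ← coeff_zero_eq_eval_zero]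
  rw [Finset.prod_congr rfl (fun i _ => h3 i), Finset.prod_mul_distrib,
    Finset.prod_pow_eq_pow_sum, hd.sum_eq]
  congr 1
  unfold delta eps
  have h4 : ∀ j : Fin n, (∏ i ∈ Finset.univ.filter (fun i => (d i).2 = (j : ℕ) + 1), (d i).1).coeff 0 ^
      ((j : ℕ) + 1) =
      ∏ i ∈ Finset.univ.filter (fun i => (d i).2 = (j : ℕ) + 1), (d i).1.coeff 0 ^ (d i).2 := by
    intro j
    rw [Polynomial.coeff_zero_prod, ← Finset.prod_pow]
    apply Finset.prod_congr rfl
    intro i hi
    rw [(Finset.mem_filter.mp hi).2]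
  rw [Finset.prod_congr rfl (fun j _ => h4 j)]
  rw [Fin.prod_univ_eq_prod_range
    (fun j => ∏ i ∈ Finset.univ.filter (fun i => (d i).2 = j + 1), (d i).1.coeff 0 ^ (d i).2) n]
  rw [Finset.range_eq_Ico, Finset.prod_Ico_add'
    (fun e => ∏ i ∈ Finset.univ.filter (fun i => (d i).2 = e), (d i).1.coeff 0 ^ (d i).2) 0 n 1]
  rw [Finset.prod_fiberwise_of_maps_to (g := fun i => (d i).2)]
  intro i _
  rw [Finset.mem_Ico]
  have := hd.exp_le i
  have := hd.exp_ne i
  omega

/-- Centralizing elements with prescribed determinant, for arbitrary data. -/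
theorem exists_centralizer_of_data [Finite F] (E : Mod g ≃ₗ[F[X]] ∀ i, Q (d i)) (hd : IsData d n)
    (i0 : ι) (a : F) (ha : a ≠ 0) :
    ∃ z : GL (Fin n) F, z * g = g * z ∧
      (z : Matrix (Fin n) (Fin n) F).det = a ^ (d i0).2 := by
  classical
  obtain ⟨h, hh⟩ := exists_mu_eq (d i0).1 (hd.irr i0) a
  set c : ι → F[X] := fun i => if i = i0 then h else 1 with hc
  have hdet : LinearMap.det (Psi d c) = a ^ (d i0).2 := by
    rw [det_Psi d (fun i => (hd.monic i).ne_zero), Finset.prod_eq_single i0]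
    · simp only [hc, if_true]
      rw [mu_pow _ _ (hd.monic i0).ne_zero, hh]
    · intro i _ hi
      simp only [hc, if_neg hi]
      exact mu_one_right _
    · intro h
      exact absurd (Finset.mem_univ _) h
  set z' : (Fin n → F) →ₗ[F] (Fin n → F) :=
    ((EF g d E).symm : _ →ₗ[F] _) ∘ₗ Psi d c ∘ₗ ((EF g d E) : _ →ₗ[F] _) with hz'
  have hdetz' : LinearMap.det z' = a ^ (d i0).2 := by
    rw [← hdet]
    apply det_eq_of_intertwine (EF g d E).symm (Psi d c) z'
    intro v
    simp [hz']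
  have hcomm : z' ∘ₗ Matrix.mulVecLin (g : Matrix (Fin n) (Fin n) F) =
      Matrix.mulVecLin (g : Matrix (Fin n) (Fin n) F) ∘ₗ z' := by
    apply LinearMap.ext
    intro x
    apply (EF g d E).injective
    simp only [hz', LinearMap.coe_comp, LinearEquiv.coe_coe, Function.comp_apply,
      LinearEquiv.apply_symm_apply]
    rw [EF_mulVec, EF_mulVec, LinearEquiv.apply_symm_apply]
    funext i
    simp only [Psi_apply, Pi.smul_apply]
    exact smul_comm _ _ _
  set Z : Matrix (Fin n) (Fin n) F := LinearMap.toMatrix' z' with hZ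
  have hZdet : Z.det = a ^ (d i0).2 := by
    rw [hZ, LinearMap.det_toMatrix', hdetz']
  refine ⟨Matrix.GeneralLinearGroup.mkOfDetNeZero Z (by rw [hZdet]; exact pow_ne_zero _ ha), ?_,
    hZdet⟩
  apply Units.ext
  show Z * (g : Matrix (Fin n) (Fin n) F) = (g : Matrix (Fin n) (Fin n) F) * Z
  have h1 := congrArg LinearMap.toMatrix' hcomm
  rw [LinearMap.toMatrix'_comp, LinearMap.toMatrix'_comp, ← Matrix.toLin'_apply',
    LinearMap.toMatrix'_toLin'] at h1
  exact h1

end data

/-- **A1.**  The determinant in terms of the type. -/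
theorem det_eq_delta {n : ℕ} (g : GL (Fin n) F) :
    (g : Matrix (Fin n) (Fin n) F).det = (-1) ^ n * delta (inv g) := by
  let _ := (exists_isData g).choose_spec.choose
  obtain ⟨hd, ⟨E⟩⟩ := (exists_isData g).choose_spec.choose_spec.choose_spec
  exact det_eq_of_data g _ E hd

/-- Centralizing elements with prescribed determinant. -/
theorem exists_centralizer_det [Finite F] {n : ℕ} (g : GL (Fin n) F) (j : Fin n)
    (hj : inv g j ≠ 1) (a : Fˣ) :
    ∃ z : GL (Fin n) F, z * g = g * z ∧
      (z : Matrix (Fin n) (Fin n) F).det = (a : F) ^ ((j : ℕ) + 1) := by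
  classical
  let _ := (exists_isData g).choose_spec.choose
  obtain ⟨hd, ⟨E⟩⟩ := (exists_isData g).choose_spec.choose_spec.choose_spec
  have hne : (Finset.univ.filter (fun i => ((exists_isData g).choose_spec.choose_spec.choose i).2 =
      (j : ℕ) + 1)).Nonempty := by
    by_contra hcon
    rw [Finset.not_nonempty_iff_eq_empty] at hcon
    apply hj
    unfold inv eps
    convert Finset.prod_empty
  obtain ⟨i0, hi0⟩ := hne
  rw [Finset.mem_filter] at hi0
  obtain ⟨z, hz1, hz2⟩ := exists_centralizer_of_data g _ E hd i0 (a : F) a.ne_zero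
  exact ⟨z, hz1, by rw [hz2, hi0.2]⟩

end Cfsg.Agent.SLk
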