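import Mathlib

/-!
# Conjugacy classes of a central quotient (for S2480)

For a finite group `G` and a central subgroup `Z`, the group `Z` acts on the conjugacy classes of
`G` by multiplication, the orbits are the fibres of `ConjClasses G → ConjClasses (G ⧸ Z)`, and
Burnside's lemma gives
`|Z| * k(G ⧸ Z) = ∑ z : Z, #{classes c of G fixed by z}`.
-/

set_option autoImplicit false
set_option linter.style.haveILetI false

namespace Cfsg.Agent.SLk

variable {G : Type*} [Group G]

/-- Multiplication by a central element respects conjugacy. -/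
theorem isConj_central_mul {z : G} (hz : z ∈ Subgroup.center G) {a b : G} (h : IsConj a b) :
    IsConj (z * a) (z * b) := by
  rw [isConj_iff] at h ⊢
  obtain ⟨c, hc⟩ := h
  refine ⟨c, ?_⟩
  have h1 : c * z = z * c := (Subgroup.mem_center_iff.mp hz c)
  rw [← hc, ← mul_assoc, h1, mul_assoc, mul_assoc, mul_assoc]

/-- The action of a central subgroup on the conjugacy classes, by multiplication. -/
def centralSMulClass (Z : Subgroup G) (hZ : Z ≤ Subgroup.center G) (z : Z) :
    ConjClasses G → ConjClasses G :=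
  Quotient.map' (fun g => (z : G) * g) (fun _ _ h => isConj_central_mul (hZ z.2) h)

theorem centralSMulClass_mk (Z : Subgroup G) (hZ : Z ≤ Subgroup.center G) (z : Z) (g : G) :
    centralSMulClass Z hZ z (ConjClasses.mk g) = ConjClasses.mk ((z : G) * g) := rfl

/-- The action of a central subgroup on the conjugacy classes, as a `MulAction`. -/
@[instance_reducible]
def centralMulActionClass (Z : Subgroup G) (hZ : Z ≤ Subgroup.center G) :
    MulAction Z (ConjClasses G) where
  smul := centralSMulClass Z hZ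
  one_smul c := by
    obtain ⟨g, rfl⟩ := ConjClasses.mk_surjective c
    show centralSMulClass Z hZ 1 (ConjClasses.mk g) = ConjClasses.mk g
    rw [centralSMulClass_mk]
    simp
  mul_smul z₁ z₂ c := by
    obtain ⟨g, rfl⟩ := ConjClasses.mk_surjective c
    show centralSMulClass Z hZ (z₁ * z₂) (ConjClasses.mk g) =
      centralSMulClass Z hZ z₁ (centralSMulClass Z hZ z₂ (ConjClasses.mk g))
    rw [centralSMulClass_mk, centralSMulClass_mk, centralSMulClass_mk]
    simp [mul_assoc]

/-- Two classes of `G` have the same image in `G ⧸ Z` iff they are in the same `Z`-orbit. -/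
theorem conjClasses_map_mk_eq_iff (Z : Subgroup G) [Z.Normal] (hZ : Z ≤ Subgroup.center G) (g h : G) :
    ConjClasses.map (QuotientGroup.mk' Z) (ConjClasses.mk g) =
        ConjClasses.map (QuotientGroup.mk' Z) (ConjClasses.mk h) ↔
      ∃ z : Z, ConjClasses.mk h = ConjClasses.mk ((z : G) * g) := by
  constructor
  · intro hgh
    have h1 : IsConj (QuotientGroup.mk' Z g) (QuotientGroup.mk' Z h) :=
      ConjClasses.mk_eq_mk_iff_isConj.mp hgh
    rw [isConj_iff] at h1
    obtain ⟨xb, hxb⟩ := h1
    obtain ⟨x, rfl⟩ := QuotientGroup.mk'_surjective Z xb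
    rw [← map_inv, ← map_mul, ← map_mul] at hxb
    have h2 : (x * g * x⁻¹)⁻¹ * h ∈ Z := QuotientGroup.eq.mp hxb
    refine ⟨⟨(x * g * x⁻¹)⁻¹ * h, h2⟩, ?_⟩
    rw [ConjClasses.mk_eq_mk_iff_isConj, isConj_iff]
    refine ⟨x⁻¹, ?_⟩
    have h3 := Subgroup.mem_center_iff.mp (hZ h2)
    -- `h = (x g x⁻¹) * z = z * (x g x⁻¹)`
    have h4 : x⁻¹ * h * x⁻¹⁻¹ = x⁻¹ * ((x * g * x⁻¹) * ((x * g * x⁻¹)⁻¹ * h)) * x := by
      rw [mul_inv_cancel_left, inv_inv]
    rw [h4, h3 (x * g * x⁻¹)]
    show x⁻¹ * (((x * g * x⁻¹)⁻¹ * h) * (x * g * x⁻¹)) * x = ((x * g * x⁻¹)⁻¹ * h) * g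
    have h5 := h3 x⁻¹
    -- move the central element to the front
    calc x⁻¹ * (((x * g * x⁻¹)⁻¹ * h) * (x * g * x⁻¹)) * x
        = (x⁻¹ * ((x * g * x⁻¹)⁻¹ * h)) * (x * g * x⁻¹) * x := by simp only [mul_assoc]
      _ = (((x * g * x⁻¹)⁻¹ * h) * x⁻¹) * (x * g * x⁻¹) * x := by rw [h5]
      _ = ((x * g * x⁻¹)⁻¹ * h) * g := by
          simp only [mul_assoc, inv_mul_cancel_left, inv_mul_cancel, mul_one]
  · rintro ⟨z, hz⟩
    rw [hz]
    show ConjClasses.mk (QuotientGroup.mk' Z g) = ConjClasses.mk (QuotientGroup.mk' Z ((z : G) * g))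
    have : QuotientGroup.mk' Z ((z : G) * g) = QuotientGroup.mk' Z g := by
      rw [map_mul]
      have : QuotientGroup.mk' Z (z : G) = 1 := by
        rw [QuotientGroup.mk'_apply, QuotientGroup.eq_one_iff]
        exact z.2
      rw [this, one_mul]
    rw [this]

/-- The orbits of the central action are the classes of the quotient. -/
theorem card_centralOrbits_eq (Z : Subgroup G) [Z.Normal] (hZ : Z ≤ Subgroup.center G) :
    Nat.card (Quotient (@MulAction.orbitRel Z (ConjClasses G) _ (centralMulActionClass Z hZ))) =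
      Nat.card (ConjClasses (G ⧸ Z)) := by
  letI := centralMulActionClass Z hZ
  have hsmul : ∀ (z : Z) (g : G), z • ConjClasses.mk g = ConjClasses.mk ((z : G) * g) :=
    fun z g => rfl
  apply Nat.card_congr
  refine Equiv.ofBijective
    (Quotient.lift (ConjClasses.map (QuotientGroup.mk' Z)) ?_) ⟨?_, ?_⟩
  · intro a b hab
    obtain ⟨g, rfl⟩ := ConjClasses.mk_surjective a
    obtain ⟨h, rfl⟩ := ConjClasses.mk_surjective b
    have h1 : ConjClasses.mk g ∈ MulAction.orbit Z (ConjClasses.mk h) := hab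
    obtain ⟨z, hz⟩ := h1
    have hz : z • ConjClasses.mk h = ConjClasses.mk g := hz
    rw [hsmul] at hz
    exact ((conjClasses_map_mk_eq_iff Z hZ h g).mpr ⟨z, hz.symm⟩).symm
  · intro a b
    obtain ⟨a, rfl⟩ := Quotient.exists_rep a
    obtain ⟨b, rfl⟩ := Quotient.exists_rep b
    obtain ⟨g, rfl⟩ := ConjClasses.mk_surjective a
    obtain ⟨h, rfl⟩ := ConjClasses.mk_surjective b
    intro hab
    have hab' : ConjClasses.map (QuotientGroup.mk' Z) (ConjClasses.mk g) =
        ConjClasses.map (QuotientGroup.mk' Z) (ConjClasses.mk h) := hab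
    obtain ⟨z, hz⟩ := (conjClasses_map_mk_eq_iff Z hZ h g).mp hab'.symm
    apply Quotient.sound
    show ConjClasses.mk g ∈ MulAction.orbit Z (ConjClasses.mk h)
    exact ⟨z, (hsmul z h).trans hz.symm⟩
  · intro c
    obtain ⟨a, rfl⟩ := ConjClasses.map_surjective (QuotientGroup.mk'_surjective Z) c
    exact ⟨Quotient.mk _ a, rfl⟩

/-- A class with representative `g` is fixed by the central element `z` iff `z * g` is conjugate
to `g`. -/
theorem centralSMulClass_eq_iff (Z : Subgroup G) (hZ : Z ≤ Subgroup.center G) (z : Z) (g : G) :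
    centralSMulClass Z hZ z (ConjClasses.mk g) = ConjClasses.mk g ↔ IsConj ((z : G) * g) g := by
  rw [centralSMulClass_mk, ConjClasses.mk_eq_mk_iff_isConj]

/-- **Burnside for a central quotient**: `|Z| * k(G ⧸ Z)` is the number of pairs `(z, c)` with
`c` a class of `G` fixed by `z ∈ Z`. -/
theorem card_mul_card_conjClasses_quotient [Finite G] (Z : Subgroup G) [Z.Normal] [Fintype Z]
    (hZ : Z ≤ Subgroup.center G) (rep : ConjClasses G → G)
    (hrep : ∀ c, ConjClasses.mk (rep c) = c) :
    Nat.card Z * Nat.card (ConjClasses (G ⧸ Z)) =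
      ∑ z : Z, Nat.card {c : ConjClasses G // IsConj ((z : G) * rep c) (rep c)} := by
  classical
  letI := centralMulActionClass Z hZ
  letI : Fintype (ConjClasses G) := Fintype.ofFinite _
  letI : Fintype (Quotient (MulAction.orbitRel Z (ConjClasses G))) := Fintype.ofFinite _
  have hB := MulAction.sum_card_fixedBy_eq_card_orbits_mul_card_group Z (ConjClasses G)
  have h1 := card_centralOrbits_eq Z hZ
  rw [Nat.card_eq_fintype_card (α := Z), ← h1, Nat.card_eq_fintype_card, mul_comm, ← hB]
  apply Finset.sum_congr rfl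
  intro z _
  rw [← Nat.card_eq_fintype_card]
  apply Nat.card_congr
  apply Equiv.subtypeEquivRight
  intro c
  rw [MulAction.mem_fixedBy]
  show centralSMulClass Z hZ z c = c ↔ _
  conv_lhs => rw [← hrep c]
  exact centralSMulClass_eq_iff Z hZ z (rep c)

/-- The easy corollary: `k(G) ≤ |Z| * k(G ⧸ Z)`. -/
theorem card_conjClasses_le_mul [Finite G] (Z : Subgroup G) [Z.Normal]
    (hZ : Z ≤ Subgroup.center G) :
    Nat.card (ConjClasses G) ≤ Nat.card Z * Nat.card (ConjClasses (G ⧸ Z)) := by
  classical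
  letI : Fintype Z := Fintype.ofFinite _
  choose rep hrep using fun c : ConjClasses G => ConjClasses.exists_rep c
  rw [card_mul_card_conjClasses_quotient Z hZ rep hrep]
  have h1 : Nat.card {c : ConjClasses G // IsConj (((1 : Z) : G) * rep c) (rep c)} =
      Nat.card (ConjClasses G) := by
    apply Nat.card_congr
    refine (Equiv.subtypeUnivEquiv ?_)
    intro c
    rw [Subgroup.coe_one, one_mul]
  rw [← h1]
  exact Finset.single_le_sum (f := fun z : Z =>
    Nat.card {c : ConjClasses G // IsConj ((z : G) * rep c) (rep c)})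
    (fun _ _ => Nat.zero_le _) (Finset.mem_univ (1 : Z))

end Cfsg.Agent.SLk
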