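import Cfsg.Agent.Lib.SLk.Defs

/-!
# S2479, step P3: the sum of the squares of the weights
-/

set_option autoImplicit false

universe u

namespace Cfsg.Agent.SLk

open Polynomial Cfsg.Agent.S2478L

variable {F : Type u} [Field F]

/-- The index set of the correction terms: the divisors `e ≥ 2` of `n` and of `q - 1`. -/
def Dset (n q : ℕ) : Finset ℕ := (Finset.Icc 2 n).filter (fun e => e ∣ n ∧ e ∣ q - 1)

theorem mem_Dset {n q e : ℕ} : e ∈ Dset n q ↔ (2 ≤ e ∧ e ≤ n) ∧ e ∣ n ∧ e ∣ q - 1 := by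
  simp [Dset]

theorem gw_dvd_n (q : ℕ) {n : ℕ} {t : Fin n → F[X]} (ht : t ∈ Tup F n n) : gw q t ∣ n := by
  have h2 := ht.2
  suffices h : gw q t ∣ ∑ j : Fin n, ((j : ℕ) + 1) * (t j).natDegree by
    rw [h2] at h
    exact h
  apply Finset.dvd_sum
  intro j _
  by_cases h : t j = 1
  · rw [h, natDegree_one, mul_zero]
    exact dvd_zero _
  · exact Dvd.dvd.mul_right (gw_dvd_block q t h) _

theorem gw_eq_one_or_mem (q : ℕ) (hq : 2 ≤ q) {n : ℕ} (hn : 1 ≤ n) {t : Fin n → F[X]}
    (ht : t ∈ Tup F n n) : gw q t = 1 ∨ gw q t ∈ Dset n q := by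
  have h1 := gw_dvd_n q ht
  have h2 := gw_dvd_pred q t
  have h3 : 0 < gw q t := Nat.pos_of_dvd_of_pos h2 (by omega)
  have h4 : gw q t ≤ n := Nat.le_of_dvd (by omega) h1
  by_cases h : gw q t = 1
  · exact Or.inl h
  · exact Or.inr (mem_Dset.mpr ⟨⟨by omega, h4⟩, h1, h2⟩)

/-- Keep only the entries whose block size is divisible by `e`. -/
def compress {n : ℕ} (e : ℕ) (he : 1 ≤ e) (t : Fin n → F[X]) : Fin (n / e) → F[X] :=
  fun j' => t ⟨e * ((j' : ℕ) + 1) - 1, by
    have h1 : (j' : ℕ) + 1 ≤ n / e := j'.2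
    have h2 : e * ((j' : ℕ) + 1) ≤ e * (n / e) := Nat.mul_le_mul_left _ h1
    have h3 : e * (n / e) ≤ n := Nat.mul_div_le n e
    have h4 : 1 ≤ e * ((j' : ℕ) + 1) := Nat.mul_pos he (Nat.succ_pos _)
    omega⟩

theorem exists_index {n e : ℕ} (he : 1 ≤ e) (j : Fin n) (hj : e ∣ (j : ℕ) + 1) :
    ∃ j' : Fin (n / e), e * ((j' : ℕ) + 1) - 1 = (j : ℕ) := by
  obtain ⟨m, hm⟩ := hj
  have hm1 : 1 ≤ m := by
    rcases Nat.eq_zero_or_pos m with h | h
    · subst h; omega
    · exact h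
  have hmle : m ≤ n / e := by
    rw [Nat.le_div_iff_mul_le he, mul_comm, ← hm]
    exact j.2
  refine ⟨⟨m - 1, by omega⟩, ?_⟩
  have : m - 1 + 1 = m := by omega
  simp only [this]
  omega

theorem compress_mem_Tup {n e : ℕ} (he : 1 ≤ e) (hen : e ∣ n) {t : Fin n → F[X]}
    (ht : t ∈ Tup F n n) (hte : ∀ j, t j ≠ 1 → e ∣ (j : ℕ) + 1) :
    compress e he t ∈ Tup F (n / e) (n / e) := by
  classical
  refine ⟨fun j' => ht.1 _, ?_⟩
  have h2 := ht.2
  -- the index map
  set ι : Fin (n / e) → Fin n := fun j' => ⟨e * ((j' : ℕ) + 1) - 1, by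
    have h1 : (j' : ℕ) + 1 ≤ n / e := j'.2
    have h2 : e * ((j' : ℕ) + 1) ≤ e * (n / e) := Nat.mul_le_mul_left _ h1
    have h3 : e * (n / e) ≤ n := Nat.mul_div_le n e
    have h4 : 1 ≤ e * ((j' : ℕ) + 1) := Nat.mul_pos he (Nat.succ_pos _)
    omega⟩ with hι
  have hιinj : Function.Injective ι := by
    intro a b hab
    have h := congrArg Fin.val hab
    simp only [hι] at h
    have h4 : 1 ≤ e * ((a : ℕ) + 1) := Nat.mul_pos he (Nat.succ_pos _)
    have h5 : 1 ≤ e * ((b : ℕ) + 1) := Nat.mul_pos he (Nat.succ_pos _)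
    have h6 : e * ((a : ℕ) + 1) = e * ((b : ℕ) + 1) := by omega
    have h7 := Nat.eq_of_mul_eq_mul_left he h6
    exact Fin.ext (by omega)
  have hsum : ∑ j : Fin n, ((j : ℕ) + 1) * (t j).natDegree =
      ∑ j' : Fin (n / e), (((ι j' : Fin n) : ℕ) + 1) * (t (ι j')).natDegree := by
    rw [← Finset.sum_image (s := Finset.univ) (g := ι)
      (f := fun j : Fin n => ((j : ℕ) + 1) * (t j).natDegree) (fun a _ b _ hab => hιinj hab)]
    symm
    apply Finset.sum_subset (Finset.subset_univ _)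
    intro j _ hj
    by_cases h : t j = 1
    · rw [h, natDegree_one, mul_zero]
    · exfalso
      apply hj
      obtain ⟨j', hj'⟩ := exists_index he j (hte j h)
      rw [Finset.mem_image]
      exact ⟨j', Finset.mem_univ _, Fin.ext hj'⟩
  have hterm : ∀ j' : Fin (n / e), (((ι j' : Fin n) : ℕ) + 1) * (t (ι j')).natDegree =
      e * (((j' : ℕ) + 1) * (compress e he t j').natDegree) := by
    intro j'
    have h4 : 1 ≤ e * ((j' : ℕ) + 1) := Nat.mul_pos he (Nat.succ_pos _)
    have h5 : ((ι j' : Fin n) : ℕ) + 1 = e * ((j' : ℕ) + 1) := by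
      simp only [hι]
      omega
    rw [h5, mul_assoc]
    rfl
  rw [hsum, Finset.sum_congr rfl (fun j' _ => hterm j'), ← Finset.mul_sum] at h2
  have h3 : e * (n / e) = n := Nat.mul_div_cancel' hen
  exact Nat.eq_of_mul_eq_mul_left (by omega : 0 < e) (h2.trans h3.symm)

theorem compress_injOn {n e : ℕ} (he : 1 ≤ e) {t u : Fin n → F[X]}
    (hte : ∀ j, t j ≠ 1 → e ∣ (j : ℕ) + 1) (hue : ∀ j, u j ≠ 1 → e ∣ (j : ℕ) + 1)
    (h : compress e he t = compress e he u) : t = u := by
  funext j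
  by_cases hj : e ∣ (j : ℕ) + 1
  · obtain ⟨j', hj'⟩ := exists_index he j hj
    have := congrFun h j'
    simp only [compress] at this
    have hjj : (⟨e * ((j' : ℕ) + 1) - 1, by rw [hj']; exact j.2⟩ : Fin n) = j := Fin.ext hj'
    simp only [hj'] at this
    exact this
  · have h1 : t j = 1 := by
      by_contra h1
      exact hj (hte j h1)
    have h2 : u j = 1 := by
      by_contra h2
      exact hj (hue j h2)
    rw [h1, h2]

/-- The number of types with a given weight `e`. -/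
theorem card_gw_eq_le [Finite F] (q : ℕ) {n e : ℕ} (he : 1 ≤ e) (hen : e ∣ n)
    (Tf : Finset (Fin n → F[X])) (hTf : ∀ t, t ∈ Tf ↔ t ∈ Tup F n n) :
    (Tf.filter (fun t => gw q t = e)).card ≤ (Tup F (n / e) (n / e)).ncard := by
  classical
  have : Fintype F := Fintype.ofFinite F
  have hfin : (Tup F (n / e) (n / e)).Finite := (Tup_bound (F := F) (n / e) (n / e)).1
  rw [← Set.ncard_coe_finset]
  apply Set.ncard_le_ncard_of_injOn (compress e he) _ _ hfin
  · intro t ht
    rw [Finset.mem_coe, Finset.mem_filter] at ht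
    apply compress_mem_Tup he hen ((hTf t).mp ht.1)
    intro j hj
    rw [← ht.2]
    exact gw_dvd_block q t hj
  · intro t ht u hu h
    rw [Finset.mem_coe, Finset.mem_filter] at ht hu
    apply compress_injOn he _ _ h
    · intro j hj
      rw [← ht.2]
      exact gw_dvd_block q t hj
    · intro j hj
      rw [← hu.2]
      exact gw_dvd_block q u hj

/-- **P3.** -/
theorem sum_gw_sq_le [Finite F] (q : ℕ) (hq : 2 ≤ q) {n : ℕ} (hn : 1 ≤ n)
    (Tf : Finset (Fin n → F[X])) (hTf : ∀ t, t ∈ Tf ↔ t ∈ Tup F n n) :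
    ∑ t ∈ Tf, gw q t ^ 2 ≤
      Tf.card + ∑ e ∈ Dset n q, (e ^ 2 - 1) * (Tup F (n / e) (n / e)).ncard := by
  classical
  have h1 : ∀ t ∈ Tf, gw q t ^ 2 = 1 + ∑ e ∈ Dset n q, if gw q t = e then (e ^ 2 - 1) else 0 := by
    intro t ht
    rw [Finset.sum_ite_eq]
    rcases gw_eq_one_or_mem q hq hn ((hTf t).mp ht) with h | h
    · have : (1 : ℕ) ∉ Dset n q := by
        rw [mem_Dset]
        omega
      rw [h, if_neg this]
      norm_num
    · rw [if_pos h]
      have : 1 ≤ gw q t ^ 2 := Nat.one_le_pow _ _ (by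
        have := (mem_Dset.mp h).1.1
        omega)
      omega
  rw [Finset.sum_congr rfl h1, Finset.sum_add_distrib, Finset.sum_const, smul_eq_mul, mul_one,
    Finset.sum_comm]
  apply Nat.add_le_add_left
  apply Finset.sum_le_sum
  intro e he
  rw [← Finset.sum_filter, Finset.sum_const, smul_eq_mul, mul_comm]
  have he' := mem_Dset.mp he
  exact Nat.mul_le_mul_left _ (card_gw_eq_le q (by omega) he'.2.1 Tf hTf)

/-- The number of types of size `m ≥ 1` is at most `q ^ m - 1`. -/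
theorem Tup_ncard_succ_le [Fintype F] (m : ℕ) (hm : 1 ≤ m) :
    (Tup F m m).ncard + 1 ≤ Fintype.card F ^ m := by
  have h1 := (Tup_bound (F := F) m m).2
  have hq : 1 ≤ Fintype.card F := Fintype.card_pos
  have h2 := main_ineq (Fintype.card F) hq m m hm
  have hpos : 0 < Fintype.card F ^ m := Nat.pow_pos (by omega)
  rw [pow_add] at h2
  have h3 : Fintype.card F ^ m * (w (Fintype.card F) m m + 1) ≤
      Fintype.card F ^ m * Fintype.card F ^ m := by
    calc Fintype.card F ^ m * (w (Fintype.card F) m m + 1)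
        = Fintype.card F ^ m * w (Fintype.card F) m m + Fintype.card F ^ m := by ring
      _ ≤ _ := h2
  have h4 := Nat.le_of_mul_le_mul_left h3 hpos
  omega

/-- The number of types of size `3` is at most `q ^ 3 - q`. -/
theorem Tup_three_ncard_le [Fintype F] :
    (Tup F 3 3).ncard + Fintype.card F ≤ Fintype.card F ^ 3 := by
  have h1 := (Tup_bound (F := F) 3 3).2
  have hq : 2 ≤ Fintype.card F := Fintype.one_lt_card
  obtain ⟨r, hr⟩ : ∃ r, Fintype.card F = r + 1 := ⟨Fintype.card F - 1, by omega⟩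
  have h2 : w (Fintype.card F) 3 3 + Fintype.card F = Fintype.card F ^ 3 := by
    rw [hr]
    simp [w, Nstar, Finset.sum_range_succ]
    ring
  omega

end Cfsg.Agent.SLk
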