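import Mathlib

/-!
# Two counting lemmas on finite cyclic groups (used for S2479/S2480)
-/

set_option autoImplicit false

namespace Cfsg.Agent.SLk

/-- In a cyclic group, a subgroup containing all `m`-th powers has index dividing `m`. -/
theorem index_dvd_of_forall_pow_mem {G : Type*} [CommGroup G] [IsCyclic G] (H : Subgroup G) (m : ℕ)
    (h : ∀ x : G, x ^ m ∈ H) : H.index ∣ m := by
  have hcyc : IsCyclic (G ⧸ H) :=
    isCyclic_of_surjective (QuotientGroup.mk' H) (QuotientGroup.mk'_surjective H)
  have h1 : Monoid.exponent (G ⧸ H) = Nat.card (G ⧸ H) := IsCyclic.exponent_eq_card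
  have h2 : Monoid.exponent (G ⧸ H) ∣ m := by
    apply Monoid.exponent_dvd_of_forall_pow_eq_one
    intro y
    obtain ⟨x, rfl⟩ := QuotientGroup.mk'_surjective H y
    rw [← map_pow, QuotientGroup.mk'_apply, QuotientGroup.eq_one_iff]
    exact h x
  rw [h1] at h2
  exact h2

/-- Fibres of a homomorphism to a finite cyclic group whose image contains all `g`-th powers
(`g > 0`) are small: `|G| * |π⁻¹(δ)| ≤ |A| * g`. -/
theorem card_fibre_hom_le {A G : Type*} [Group A] [Fintype A] [DecidableEq G] [CommGroup G]
    [Fintype G] [IsCyclic G] (π : A →* G) (g : ℕ) (hg0 : 0 < g)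
    (hg : π.range.index ∣ g) (δ : G) :
    Fintype.card G * (Finset.univ.filter (fun a : A => π a = δ)).card ≤ Fintype.card A * g := by
  classical
  -- the fibre is at most as large as the kernel
  have hker : (Finset.univ.filter (fun a : A => π a = δ)).card ≤ Nat.card π.ker := by
    by_cases hne : ∃ a0 : A, π a0 = δ
    · obtain ⟨a0, ha0⟩ := hne
      rw [Nat.card_eq_fintype_card, ← Fintype.card_coe]
      apply Fintype.card_le_of_injective
        (fun a : {a // a ∈ Finset.univ.filter (fun a : A => π a = δ)} =>
          (⟨a0⁻¹ * a.1, by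
            have := (Finset.mem_filter.mp a.2).2
            rw [MonoidHom.mem_ker, map_mul, map_inv, ha0, this, inv_mul_cancel]⟩ : π.ker))
      intro a b hab
      have := congrArg Subtype.val hab
      simp only [mul_right_inj] at this
      exact Subtype.ext this
    · have : Finset.univ.filter (fun a : A => π a = δ) = ∅ := by
        rw [Finset.filter_eq_empty_iff]
        intro a _ ha
        exact hne ⟨a, ha⟩
      rw [this, Finset.card_empty]
      exact Nat.zero_le _
  have h1 : Nat.card π.ker * π.ker.index = Nat.card A := Subgroup.card_mul_index _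
  have h2 : π.ker.index = Nat.card π.range := Subgroup.index_ker π
  have h3 : Nat.card π.range * π.range.index = Nat.card G := Subgroup.card_mul_index _
  have h4 : π.range.index ≤ g := Nat.le_of_dvd hg0 hg
  rw [← Nat.card_eq_fintype_card, ← Nat.card_eq_fintype_card, ← h3, ← h1, h2]
  calc Nat.card π.range * π.range.index * (Finset.univ.filter (fun a : A => π a = δ)).card
      ≤ Nat.card π.range * π.range.index * Nat.card π.ker := Nat.mul_le_mul_left _ hker
    _ = Nat.card π.ker * Nat.card π.range * π.range.index := by ring
    _ ≤ Nat.card π.ker * Nat.card π.range * g := Nat.mul_le_mul_left _ h4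

end Cfsg.Agent.SLk
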