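import Cfsg.Agent.Lib.S2478.Upper

/-!
# Class numbers of `SL_n(q)` and `PSL_n(q)` (S2479, S2480): basic definitions

`delta t` : the product of the constant terms of a type, with multiplicities (so that
`det g = (-1)^n * delta (inv g)`), and `gw q t` : the gcd of `q - 1` and all block sizes of `t`.
-/

set_option autoImplicit false

universe u

namespace Cfsg.Agent.SLk

open Polynomial Cfsg.Agent.S2478L

variable {F : Type u} [Field F]

/-- The product of the constant terms of the invariant factors, with multiplicity. -/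
noncomputable def delta {n : ℕ} (t : Fin n → F[X]) : F :=
  ∏ j : Fin n, (t j).coeff 0 ^ ((j : ℕ) + 1)

open Classical in
/-- The set of block sizes (minus one) occurring in a type. -/
noncomputable def blocks {n : ℕ} (t : Fin n → F[X]) : Finset (Fin n) :=
  Finset.univ.filter (fun j => t j ≠ 1)

/-- The gcd of `q - 1` and of all block sizes of the type `t`. -/
noncomputable def gw (q : ℕ) {n : ℕ} (t : Fin n → F[X]) : ℕ :=
  Nat.gcd (q - 1) ((blocks t).gcd (fun j => (j : ℕ) + 1))

theorem mem_blocks {n : ℕ} {t : Fin n → F[X]} {j : Fin n} : j ∈ blocks t ↔ t j ≠ 1 := by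
  classical
  simp [blocks]

theorem gw_dvd_pred (q : ℕ) {n : ℕ} (t : Fin n → F[X]) : gw q t ∣ q - 1 :=
  Nat.gcd_dvd_left _ _

theorem gw_dvd_block (q : ℕ) {n : ℕ} (t : Fin n → F[X]) {j : Fin n} (hj : t j ≠ 1) :
    gw q t ∣ (j : ℕ) + 1 :=
  (Nat.gcd_dvd_right _ _).trans (Finset.gcd_dvd (mem_blocks.mpr hj))

/-- The type of an element of `SL_n`. -/
noncomputable def typeSL {n : ℕ} (g : Matrix.SpecialLinearGroup (Fin n) F) : Fin n → F[X] :=
  inv (Matrix.SpecialLinearGroup.toGL g)

end Cfsg.Agent.SLk
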