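import Cfsg.Agent.Lib.SLk.Central
import Cfsg.Agent.Lib.SLk.Cyclic

/-!
# S2479, step P1: the number of `SL_n`-classes of a given type
-/

set_option autoImplicit false

universe u

namespace Cfsg.Agent.SLk

open Polynomial Cfsg.Agent.S2478L

variable {F : Type u} [Field F]

/-- The determinants of the centralizer of `g`. -/
def detCent {n : ℕ} (g : GL (Fin n) F) : Subgroup Fˣ :=
  (Subgroup.centralizer {g}).map Matrix.GeneralLinearGroup.det

theorem pow_mem_detCent [Finite F] {n : ℕ} (g : GL (Fin n) F) (j : Fin n) (hj : inv g j ≠ 1)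
    (a : Fˣ) : a ^ ((j : ℕ) + 1) ∈ detCent g := by
  obtain ⟨z, hz1, hz2⟩ := exists_centralizer_det g j hj a
  refine ⟨z, ?_, ?_⟩
  · rw [SetLike.mem_coe, Subgroup.mem_centralizer_iff]
    intro h hh
    rw [Set.mem_singleton_iff] at hh
    rw [hh]
    exact hz1.symm
  · apply Units.ext
    rw [Matrix.GeneralLinearGroup.val_det_apply, hz2, Units.val_pow_eq_pow_val]

theorem index_detCent_dvd [Fintype F] {n : ℕ} (g : GL (Fin n) F) :
    (detCent g).index ∣ gw (Fintype.card F) (inv g) := by
  classical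
  unfold gw
  apply Nat.dvd_gcd
  · have := Subgroup.index_dvd_card (detCent g)
    rwa [Nat.card_eq_fintype_card, Fintype.card_units] at this
  · apply Finset.dvd_gcd
    intro j hj
    apply index_dvd_of_forall_pow_mem
    intro a
    exact pow_mem_detCent g j (mem_blocks.mp hj) a

/-- Two elements of `SL_n` conjugate in `GL_n` by elements with determinants congruent modulo
the determinants of the centralizer are conjugate in `SL_n`. -/
theorem isConj_SL_of_det {n : ℕ} (g0 : GL (Fin n) F)
    (r r' : Matrix.SpecialLinearGroup (Fin n) F) (x x' : GL (Fin n) F)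
    (hx : x * g0 * x⁻¹ = Matrix.SpecialLinearGroup.toGL r)
    (hx' : x' * g0 * x'⁻¹ = Matrix.SpecialLinearGroup.toGL r')
    (hdet : (Matrix.GeneralLinearGroup.det x)⁻¹ * Matrix.GeneralLinearGroup.det x' ∈ detCent g0) :
    IsConj r r' := by
  obtain ⟨z, hz, hzdet⟩ := hdet
  rw [SetLike.mem_coe, Subgroup.mem_centralizer_iff] at hz
  have hzg : g0 * z = z * g0 := hz g0 (Set.mem_singleton _)
  set y : GL (Fin n) F := x' * z⁻¹ * x⁻¹ with hy
  have hydet : Matrix.GeneralLinearGroup.det y = 1 := by
    rw [hy, map_mul, map_mul, map_inv, map_inv, hzdet]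
    simp only [mul_inv_rev, inv_inv]
    rw [mul_inv_cancel_left, mul_inv_cancel]
  have hconj : y * Matrix.SpecialLinearGroup.toGL r * y⁻¹ = Matrix.SpecialLinearGroup.toGL r' := by
    rw [← hx, ← hx', hy]
    have h1 : z⁻¹ * g0 * z = g0 := by
      rw [mul_assoc, hzg, ← mul_assoc, inv_mul_cancel, one_mul]
    calc x' * z⁻¹ * x⁻¹ * (x * g0 * x⁻¹) * (x' * z⁻¹ * x⁻¹)⁻¹
        = x' * (z⁻¹ * g0 * z) * x'⁻¹ := by
          simp only [mul_inv_rev, inv_inv]
          group
      _ = x' * g0 * x'⁻¹ := by rw [h1]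
  -- `y` lies in `SL_n`
  have hy1 : (y : Matrix (Fin n) (Fin n) F).det = 1 := by
    have := congrArg Units.val hydet
    rwa [Matrix.GeneralLinearGroup.val_det_apply] at this
  set y' : Matrix.SpecialLinearGroup (Fin n) F := ⟨(y : Matrix (Fin n) (Fin n) F), hy1⟩ with hy'
  have hyy : Matrix.SpecialLinearGroup.toGL y' = y := Units.ext rfl
  rw [isConj_iff]
  refine ⟨y', ?_⟩
  apply Matrix.SpecialLinearGroup.toGL_injective
  rw [map_mul, map_mul, map_inv, hyy]
  exact hconj

/-- **P1.**  The fibre bound. -/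
theorem card_fibre_le [Fintype F] {n : ℕ} (t : Fin n → F[X])
    (rep : ConjClasses (Matrix.SpecialLinearGroup (Fin n) F) → Matrix.SpecialLinearGroup (Fin n) F)
    (hrep : ∀ c, ConjClasses.mk (rep c) = c) :
    Nat.card {c // typeSL (rep c) = t} ≤ gw (Fintype.card F) t := by
  classical
  by_cases hne : Nonempty {c // typeSL (rep c) = t}
  · obtain ⟨⟨c0, hc0⟩⟩ := hne
    set g0 : GL (Fin n) F := Matrix.SpecialLinearGroup.toGL (rep c0) with hg0
    have hinv0 : inv g0 = t := hc0
    -- conjugating elements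
    have hex : ∀ c : {c // typeSL (rep c) = t}, ∃ x : GL (Fin n) F,
        x * g0 * x⁻¹ = Matrix.SpecialLinearGroup.toGL (rep c.1) := by
      intro c
      have h1 : inv g0 = inv (Matrix.SpecialLinearGroup.toGL (rep c.1)) := by
        rw [hinv0]
        exact c.2.symm
      exact isConj_iff.mp (isConj_of_inv_eq _ _ h1)
    choose x hx using hex
    have hq : 2 ≤ Fintype.card F := Fintype.one_lt_card
    have hg0pos : 0 < gw (Fintype.card F) t :=
      Nat.pos_of_dvd_of_pos (gw_dvd_pred _ t) (by omega)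
    have hidx : (detCent g0).index ≤ gw (Fintype.card F) t := by
      have := index_detCent_dvd g0
      rw [hinv0] at this
      exact Nat.le_of_dvd hg0pos this
    refine le_trans ?_ hidx
    rw [Subgroup.index]
    apply Nat.card_le_card_of_injective
      (fun c : {c // typeSL (rep c) = t} =>
        (QuotientGroup.mk (Matrix.GeneralLinearGroup.det (x c)) : Fˣ ⧸ detCent g0))
    intro c c' hcc'
    have h1 : (Matrix.GeneralLinearGroup.det (x c))⁻¹ * Matrix.GeneralLinearGroup.det (x c') ∈
        detCent g0 := QuotientGroup.eq.mp hcc'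
    have h2 := isConj_SL_of_det g0 (rep c.1) (rep c'.1) (x c) (x c') (hx c) (hx c') h1
    apply Subtype.ext
    rw [← hrep c.1, ← hrep c'.1, ConjClasses.mk_eq_mk_iff_isConj]
    exact h2
  · rw [not_nonempty_iff] at hne
    rw [Nat.card_of_isEmpty]
    exact Nat.zero_le _

end Cfsg.Agent.SLk
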