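import Cfsg.Agent.Lib.SLk.Defs
import Cfsg.Agent.Lib.S2478.Lower

set_option autoImplicit false

namespace Cfsg.Agent.SLk

open Polynomial Matrix Cfsg.Agent.S2478L

variable {F : Type*} [Field F]

/-- The middle coefficients of the characteristic polynomial of an element of `SL_n`. -/
noncomputable def cpVec {n : ℕ} (m : ℕ) (g : Matrix.SpecialLinearGroup (Fin n) F) : Fin m → F :=
  fun i => ((g : Matrix (Fin n) (Fin n) F).charpoly).coeff ((i : ℕ) + 1)

theorem charpoly_eq_of_isConj_SL {n : ℕ} {g h : Matrix.SpecialLinearGroup (Fin n) F} (hc : IsConj g h) :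
    (g : Matrix (Fin n) (Fin n) F).charpoly = (h : Matrix (Fin n) (Fin n) F).charpoly := by
  rw [isConj_iff] at hc
  obtain ⟨c, rfl⟩ := hc
  have h1 : ((c * g * c⁻¹ : Matrix.SpecialLinearGroup (Fin n) F) : Matrix (Fin n) (Fin n) F) =
      (c : Matrix (Fin n) (Fin n) F) * (g : Matrix (Fin n) (Fin n) F) *
        ((c⁻¹ : Matrix.SpecialLinearGroup (Fin n) F) : Matrix (Fin n) (Fin n) F) := by
    simp only [Matrix.SpecialLinearGroup.coe_mul]
  have h2 : ((c⁻¹ : Matrix.SpecialLinearGroup (Fin n) F) : Matrix (Fin n) (Fin n) F) *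
      (c : Matrix (Fin n) (Fin n) F) = 1 := by
    rw [← Matrix.SpecialLinearGroup.coe_mul, inv_mul_cancel, Matrix.SpecialLinearGroup.coe_one]
  rw [h1, Matrix.charpoly_mul_comm, ← mul_assoc, h2, one_mul]

/-- The class function induced by `cpVec`. -/
noncomputable def cpCl {n : ℕ} (m : ℕ) : ConjClasses (Matrix.SpecialLinearGroup (Fin n) F) → Fin m → F :=
  Quotient.lift (cpVec m) (fun _ _ hc => by
    have := charpoly_eq_of_isConj_SL hc
    funext i
    simp only [cpVec, this])

theorem cpCl_mk {n m : ℕ} (g : Matrix.SpecialLinearGroup (Fin n) F) :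
    cpCl m (ConjClasses.mk g) = cpVec m g := rfl

theorem exists_monic_coeff (m : ℕ) (v : Fin (m + 1) → F) :
    ∃ p : F[X], p.Monic ∧ p.natDegree = m + 1 ∧ ∀ i : Fin (m + 1), p.coeff i = v i := by
  refine ⟨X ^ (m + 1) + ∑ i : Fin (m + 1), monomial (i : ℕ) (v i), ?_, ?_, ?_⟩
  · apply monic_X_pow_add
    refine lt_of_le_of_lt (degree_sum_le _ _) ?_
    rw [Finset.sup_lt_iff (WithBot.bot_lt_coe _)]
    intro i _
    exact lt_of_le_of_lt (degree_monomial_le _ _) (by exact_mod_cast i.2)
  · rw [natDegree_add_eq_left_of_degree_lt]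
    · simp
    · rw [degree_X_pow]
      refine lt_of_le_of_lt (degree_sum_le _ _) ?_
      rw [Finset.sup_lt_iff (WithBot.bot_lt_coe _)]
      intro i _
      exact lt_of_le_of_lt (degree_monomial_le _ _) (by exact_mod_cast i.2)
  · intro i
    rw [coeff_add, coeff_X_pow, if_neg (by omega), zero_add, finsetSum_coeff]
    rw [Finset.sum_eq_single i]
    · simp
    · intro j _ hji
      rw [coeff_monomial, if_neg]
      intro h
      exact hji (Fin.ext h)
    · intro h; exact absurd (Finset.mem_univ _) h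

theorem cpCl_surjective (m : ℕ) :
    Function.Surjective (cpCl (F := F) (n := m + 1) m) := by
  intro c
  obtain ⟨p, hp1, hp2, hp3⟩ := exists_monic_coeff m (Fin.cons ((-1) ^ (m + 1)) c : Fin (m + 1) → F)
  have h0 : p.coeff 0 = (-1) ^ (m + 1) := by
    have := hp3 0
    simpa using this
  have hP : p ∈ Pstar F (m + 1) := ⟨hp1, hp2, by rw [h0]; exact pow_ne_zero _ (by norm_num)⟩
  obtain ⟨g, hg⟩ := exists_GL_charpoly (m + 1) p hP
  have hdet : (g : Matrix (Fin (m + 1)) (Fin (m + 1)) F).det = 1 := by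
    rw [Matrix.det_eq_sign_charpoly_coeff, hg, h0, Fintype.card_fin, ← mul_pow]
    simp
  set g' : Matrix.SpecialLinearGroup (Fin (m + 1)) F :=
    ⟨(g : Matrix (Fin (m + 1)) (Fin (m + 1)) F), hdet⟩ with hg'
  refine ⟨ConjClasses.mk g', ?_⟩
  rw [cpCl_mk]
  funext i
  simp only [cpVec, hg']
  rw [hg]
  have := hp3 i.succ
  simpa using this

theorem cpCl_not_injective (m : ℕ) :
    ¬ Function.Injective (cpCl (F := F) (n := m + 2) (m + 1)) := by
  intro hinj
  have h01 : (0 : Fin (m + 2)) ≠ 1 := by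
    intro h
    have := congrArg Fin.val h
    simp at this
  set t : Matrix.SpecialLinearGroup (Fin (m + 2)) F :=
    ⟨Matrix.transvection 0 1 1, Matrix.det_transvection_of_ne _ _ h01 1⟩ with ht
  have hne : t ≠ 1 := by
    intro h
    have h1 := congrArg (fun x : Matrix.SpecialLinearGroup (Fin (m + 2)) F =>
      (x : Matrix (Fin (m + 2)) (Fin (m + 2)) F) 0 1) h
    simp only [ht, Matrix.transvection, Matrix.SpecialLinearGroup.coe_one] at h1
    rw [Matrix.add_apply, Matrix.one_apply_ne h01, Matrix.single_apply_same, zero_add] at h1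
    exact one_ne_zero h1
  have hcp : (t : Matrix (Fin (m + 2)) (Fin (m + 2)) F).charpoly =
      (1 : Matrix (Fin (m + 2)) (Fin (m + 2)) F).charpoly := by
    rw [Matrix.charpoly_of_isUpperTriangular (t : Matrix (Fin (m + 2)) (Fin (m + 2)) F), Matrix.charpoly_of_isUpperTriangular
      (1 : Matrix (Fin (m + 2)) (Fin (m + 2)) F)]
    · apply Finset.prod_congr rfl
      intro i _
      simp only [ht, Matrix.transvection]
      rw [Matrix.add_apply, Matrix.single_apply_of_ne, add_zero]
      rintro ⟨h1, h2⟩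
      exact h01 (h1.trans h2.symm)
    · exact Matrix.blockTriangular_one
    · intro i j hij
      simp only [id] at hij
      simp only [ht, Matrix.transvection]
      rw [Matrix.add_apply, Matrix.one_apply_ne (ne_of_gt hij), zero_add,
        Matrix.single_apply_of_ne]
      rintro ⟨h1, h2⟩
      subst h1 h2
      exact absurd hij (by simp)
  have h2 : cpCl (m + 1) (ConjClasses.mk t) =
      cpCl (m + 1) (ConjClasses.mk (1 : Matrix.SpecialLinearGroup (Fin (m + 2)) F)) := by
    rw [cpCl_mk, cpCl_mk]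
    funext i
    simp only [cpVec, hcp, Matrix.SpecialLinearGroup.coe_one]
  have h3 := hinj h2
  rw [ConjClasses.mk_eq_mk_iff_isConj, isConj_one_left] at h3
  exact hne h3

/-- The lower bound: `q ^ (n - 1) < k(SL_n(q))` for `n ≥ 2`. -/
theorem lower_bound_SL [Fintype F] (n : ℕ) (hn : 2 ≤ n) :
    Fintype.card F ^ (n - 1) <
      Nat.card (ConjClasses (Matrix.SpecialLinearGroup (Fin n) F)) := by
  classical
  obtain ⟨m, rfl⟩ : ∃ m, n = m + 2 := ⟨n - 2, by omega⟩
  have : Fintype (ConjClasses (Matrix.SpecialLinearGroup (Fin (m + 2)) F)) := Fintype.ofFinite _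
  have h := Fintype.card_lt_of_surjective_not_injective _ (cpCl_surjective (F := F) (m + 1))
    (cpCl_not_injective m)
  rw [Nat.card_eq_fintype_card]
  simpa using h

end Cfsg.Agent.SLk
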