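import Cfsg.Agent.Lib.SLk.Compress

/-!
# S2479, step P4: the numerical part
-/

set_option autoImplicit false

namespace Cfsg.Agent.SLk

/-- The geometric sum `1 + q + ⋯ + q ^ (m - 1)`. -/
def geo (q m : ℕ) : ℕ := ∑ i ∈ Finset.range m, q ^ i

theorem geo_zero (q : ℕ) : geo q 0 = 0 := by simp [geo]

theorem geo_succ (q m : ℕ) : geo q (m + 1) = geo q m + q ^ m := Finset.sum_range_succ _ _

theorem pred_mul_geo (r m : ℕ) : r * geo (r + 1) m + 1 = (r + 1) ^ m := by
  induction m with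
  | zero => simp [geo]
  | succ m ih =>
    rw [geo_succ, pow_succ, ← ih]
    ring

theorem geo_le (q : ℕ) (hq : 2 ≤ q) (m : ℕ) : geo q (m + 1) + 1 ≤ 2 * q ^ m := by
  induction m with
  | zero => simp [geo]
  | succ m ih =>
    rw [geo_succ, pow_succ]
    nlinarith [Nat.pow_pos (n := m) (by omega : 0 < q)]

theorem three_mul_sum_sq_le (q : ℕ) : 3 * ∑ e ∈ Finset.range q, e ^ 2 ≤ q ^ 3 := by
  induction q with
  | zero => simp
  | succ q ih =>
    rw [Finset.sum_range_succ]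
    have : (q + 1) ^ 3 = q ^ 3 + 3 * q ^ 2 + 3 * q + 1 := by ring
    omega

/-- Divide the basic inequality by `q - 1`. -/
theorem k_le_of (q n k : ℕ) (hq : 2 ≤ q) (Tn Gn : ℕ) (T : ℕ → ℕ) (hTn : Tn ≤ (q - 1) * Gn)
    (hT : ∀ m, 1 ≤ m → T m + 1 ≤ q ^ m)
    (h : (q - 1) * k ≤ Tn + ∑ e ∈ Dset n q, (e ^ 2 - 1) * T (n / e)) :
    k ≤ Gn + ∑ e ∈ Dset n q, (e ^ 2 - 1) * geo q (n / e) := by
  obtain ⟨r, rfl⟩ : ∃ r, q = r + 1 := ⟨q - 1, by omega⟩
  have hr : 0 < r := by omega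
  simp only [Nat.add_sub_cancel] at *
  have h1 : ∀ e ∈ Dset n (r + 1), (e ^ 2 - 1) * T (n / e) ≤
      r * ((e ^ 2 - 1) * geo (r + 1) (n / e)) := by
    intro e he
    have he' := mem_Dset.mp he
    have hpos : 1 ≤ n / e := Nat.div_pos he'.1.2 (by omega)
    have h2 := hT (n / e) hpos
    have h3 := pred_mul_geo r (n / e)
    have h4 : T (n / e) ≤ r * geo (r + 1) (n / e) := by omega
    calc (e ^ 2 - 1) * T (n / e) ≤ (e ^ 2 - 1) * (r * geo (r + 1) (n / e)) :=
          Nat.mul_le_mul_left _ h4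
      _ = _ := by ring
  have h5 : r * k ≤ r * (Gn + ∑ e ∈ Dset n (r + 1), (e ^ 2 - 1) * geo (r + 1) (n / e)) := by
    rw [mul_add, Finset.mul_sum]
    exact le_trans h (Nat.add_le_add hTn (Finset.sum_le_sum h1))
  exact Nat.le_of_mul_le_mul_left h5 hr

theorem sum_Dset_two (q : ℕ) (f : ℕ → ℕ) :
    ∑ e ∈ Dset 2 q, f e = (if 2 ∣ q - 1 then f 2 else 0) := by
  have h : Finset.Icc 2 2 = {2} := by decide
  rw [Dset, Finset.sum_filter, h]
  simp

theorem sum_Dset_three (q : ℕ) (f : ℕ → ℕ) :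
    ∑ e ∈ Dset 3 q, f e = (if 3 ∣ q - 1 then f 3 else 0) := by
  have h : Finset.Icc 2 3 = {2, 3} := by decide
  rw [Dset, Finset.sum_filter, h]
  simp [Finset.sum_insert]

theorem sum_Dset_four (q : ℕ) (f : ℕ → ℕ) :
    ∑ e ∈ Dset 4 q, f e = (if 2 ∣ q - 1 then f 2 else 0) + (if 4 ∣ q - 1 then f 4 else 0) := by
  have h : Finset.Icc 2 4 = {2, 3, 4} := by decide
  rw [Dset, Finset.sum_filter, h]
  simp [Finset.sum_insert]

theorem sum_Dset_five (q : ℕ) (f : ℕ → ℕ) :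
    ∑ e ∈ Dset 5 q, f e = (if 5 ∣ q - 1 then f 5 else 0) := by
  have h : Finset.Icc 2 5 = {2, 3, 4, 5} := by decide
  rw [Dset, Finset.sum_filter, h]
  simp [Finset.sum_insert]

theorem sum_Dset_six (q : ℕ) (f : ℕ → ℕ) :
    ∑ e ∈ Dset 6 q, f e = (if 2 ∣ q - 1 then f 2 else 0) + (if 3 ∣ q - 1 then f 3 else 0) +
      (if 6 ∣ q - 1 then f 6 else 0) := by
  have h : Finset.Icc 2 6 = {2, 3, 4, 5, 6} := by decide
  rw [Dset, Finset.sum_filter, h]
  simp [Finset.sum_insert]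
  ring

/-- The uniform estimate of the correction terms for `n ≥ 7`. -/
theorem sum_Dset_le (q n : ℕ) (hq : 2 ≤ q) (hn : 7 ≤ n) :
    ∑ e ∈ Dset n q, (e ^ 2 - 1) * geo q (n / e) ≤ q ^ (n - 2) := by
  have hqpos : 0 < q := by omega
  have h1 : ∀ e ∈ Dset n q, (e ^ 2 - 1) * geo q (n / e) ≤ e ^ 2 * (2 * q ^ (n / 2 - 1)) := by
    intro e he
    have he' := mem_Dset.mp he
    have hpos : 1 ≤ n / e := Nat.div_pos he'.1.2 (by omega)
    obtain ⟨m, hm⟩ : ∃ m, n / e = m + 1 := ⟨n / e - 1, by omega⟩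
    have h2 := geo_le q hq m
    have h3 : n / e ≤ n / 2 := Nat.div_le_div_left he'.1.1 (by omega)
    have h4 : q ^ m ≤ q ^ (n / 2 - 1) := Nat.pow_le_pow_right hqpos (by omega)
    rw [hm]
    exact Nat.mul_le_mul (Nat.sub_le _ _) (by omega)
  have h2 : Dset n q ⊆ Finset.range q := by
    intro e he
    have he' := mem_Dset.mp he
    have := Nat.le_of_dvd (by omega) he'.2.2
    rw [Finset.mem_range]
    omega
  have h3 : ∑ e ∈ Dset n q, e ^ 2 * (2 * q ^ (n / 2 - 1)) ≤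
      (∑ e ∈ Finset.range q, e ^ 2) * (2 * q ^ (n / 2 - 1)) := by
    rw [← Finset.sum_mul]
    exact Nat.mul_le_mul_right _ (Finset.sum_le_sum_of_subset h2)
  have h4 := three_mul_sum_sq_le q
  have h5 : q ^ 3 * q ^ (n / 2 - 1) ≤ q ^ (n - 2) := by
    rw [← pow_add]
    exact Nat.pow_le_pow_right hqpos (by omega)
  have h6 := le_trans (Finset.sum_le_sum h1) h3
  set S := ∑ e ∈ Dset n q, (e ^ 2 - 1) * geo q (n / e) with hS
  set Q := ∑ e ∈ Finset.range q, e ^ 2 with hQ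
  set P := q ^ (n / 2 - 1) with hP
  have h7 : 3 * S ≤ 2 * q ^ (n - 2) := by
    calc 3 * S ≤ 3 * (Q * (2 * P)) := Nat.mul_le_mul_left _ h6
      _ = 2 * ((3 * Q) * P) := by ring
      _ ≤ 2 * (q ^ 3 * P) := Nat.mul_le_mul_left _ (Nat.mul_le_mul_right _ h4)
      _ ≤ 2 * q ^ (n - 2) := Nat.mul_le_mul_left _ h5
  omega

/-- **P4.**  The numerical conclusion. -/
theorem numeric (q n k : ℕ) (hq : 2 ≤ q) (hn : 2 ≤ n) (Tn : ℕ) (T : ℕ → ℕ)
    (hTn : Tn + 1 ≤ q ^ n) (hT3 : n = 3 → Tn + q ≤ q ^ 3)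
    (hT : ∀ m, 1 ≤ m → T m + 1 ≤ q ^ m)
    (h : (q - 1) * k ≤ Tn + ∑ e ∈ Dset n q, (e ^ 2 - 1) * T (n / e)) :
    2 * k ≤ 5 * q ^ (n - 1) ∧ (3 ≤ n → k ≤ q ^ (n - 1) + 3 * q ^ (n - 2)) := by
  -- the `5/2` bound follows from the other one for `n ≥ 3`
  have key : 3 ≤ n → k ≤ q ^ (n - 1) + 3 * q ^ (n - 2) →
      2 * k ≤ 5 * q ^ (n - 1) ∧ (3 ≤ n → k ≤ q ^ (n - 1) + 3 * q ^ (n - 2)) := by
    intro h3 hk
    refine ⟨?_, fun _ => hk⟩
    have : q ^ (n - 1) = q * q ^ (n - 2) := by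
      rw [← pow_succ']
      congr 1
      omega
    nlinarith [Nat.pow_pos (n := n - 2) (by omega : 0 < q)]
  -- the general form of the hypothesis
  have hgen : k ≤ geo q n + ∑ e ∈ Dset n q, (e ^ 2 - 1) * geo q (n / e) := by
    apply k_le_of q n k hq Tn (geo q n) T _ hT h
    obtain ⟨r, rfl⟩ : ∃ r, q = r + 1 := ⟨q - 1, by omega⟩
    have := pred_mul_geo r n
    simp only [Nat.add_sub_cancel]
    omega
  have hr1 : ∀ e, 2 ≤ e → e ∣ q - 1 → e + 1 ≤ q := by
    intro e _ he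
    have := Nat.le_of_dvd (by omega) he
    omega
  rcases (by omega : n = 2 ∨ n = 3 ∨ n = 4 ∨ n = 5 ∨ n = 6 ∨ 7 ≤ n) with
    rfl | rfl | rfl | rfl | rfl | h7
  · -- n = 2
    refine ⟨?_, fun h3 => absurd h3 (by omega)⟩
    rw [sum_Dset_two] at hgen
    simp only [geo, Finset.sum_range_succ, Finset.sum_range_zero] at hgen
    norm_num at hgen
    split_ifs at hgen with h2
    · have := hr1 2 (by omega) h2
      norm_num
      omega
    · norm_num
      omega
  · -- n = 3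
    apply key (by omega)
    have hgen3 : k ≤ (q ^ 2 + q) + ∑ e ∈ Dset 3 q, (e ^ 2 - 1) * geo q (3 / e) := by
      apply k_le_of q 3 k hq Tn (q ^ 2 + q) T _ hT h
      have h3 := hT3 rfl
      obtain ⟨r, rfl⟩ : ∃ r, q = r + 1 := ⟨q - 1, by omega⟩
      simp only [Nat.add_sub_cancel]
      have : (r + 1) ^ 3 = r * ((r + 1) ^ 2 + (r + 1)) + (r + 1) := by ring
      omega
    rw [sum_Dset_three] at hgen3
    simp only [geo, Finset.sum_range_succ, Finset.sum_range_zero] at hgen3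
    norm_num at hgen3
    norm_num
    split_ifs at hgen3 with h3
    · have := hr1 3 (by omega) h3
      nlinarith
    · nlinarith
  · -- n = 4
    apply key (by omega)
    rw [sum_Dset_four] at hgen
    simp only [geo, Finset.sum_range_succ, Finset.sum_range_zero] at hgen
    norm_num at hgen
    norm_num
    split_ifs at hgen with h2 h4 h4
    · have := hr1 4 (by omega) h4
      obtain ⟨s, rfl⟩ : ∃ s, q = s + 5 := ⟨q - 5, by omega⟩
      refine le_trans hgen ?_
      ring_nf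
      omega
    · have := hr1 2 (by omega) h2
      obtain ⟨s, rfl⟩ : ∃ s, q = s + 3 := ⟨q - 3, by omega⟩
      refine le_trans hgen ?_
      ring_nf
      omega
    · have := hr1 4 (by omega) h4
      obtain ⟨s, rfl⟩ : ∃ s, q = s + 5 := ⟨q - 5, by omega⟩
      refine le_trans hgen ?_
      ring_nf
      omega
    · obtain ⟨s, rfl⟩ : ∃ s, q = s + 2 := ⟨q - 2, by omega⟩
      refine le_trans hgen ?_
      ring_nf
      omega
  · -- n = 5
    apply key (by omega)
    rw [sum_Dset_five] at hgen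
    simp only [geo, Finset.sum_range_succ, Finset.sum_range_zero] at hgen
    norm_num at hgen
    norm_num
    split_ifs at hgen with h5
    · have := hr1 5 (by omega) h5
      obtain ⟨s, rfl⟩ : ∃ s, q = s + 6 := ⟨q - 6, by omega⟩
      refine le_trans hgen ?_
      ring_nf
      omega
    · obtain ⟨s, rfl⟩ : ∃ s, q = s + 2 := ⟨q - 2, by omega⟩
      refine le_trans hgen ?_
      ring_nf
      omega
  · -- n = 6
    apply key (by omega)
    rw [sum_Dset_six] at hgen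
    simp only [geo, Finset.sum_range_succ, Finset.sum_range_zero] at hgen
    norm_num at hgen
    norm_num
    have hb : k ≤ 1 + q + q ^ 2 + q ^ 3 + q ^ 4 + q ^ 5 +
        ((if 2 ∣ q - 1 then 3 * (1 + q + q ^ 2) else 0) + (if 3 ∣ q - 1 then 8 * (1 + q) else 0) +
          if 6 ∣ q - 1 then 35 else 0) := hgen
    by_cases h6 : 6 ∣ q - 1
    · have := hr1 6 (by omega) h6
      have hb' : k ≤ 1 + q + q ^ 2 + q ^ 3 + q ^ 4 + q ^ 5 +
          (3 * (1 + q + q ^ 2) + 8 * (1 + q) + 35) := by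
        refine le_trans hb ?_
        split_ifs <;> omega
      obtain ⟨s, rfl⟩ : ∃ s, q = s + 7 := ⟨q - 7, by omega⟩
      refine le_trans hb' ?_
      ring_nf
      omega
    · by_cases h3 : 3 ∣ q - 1
      · have := hr1 3 (by omega) h3
        have hb' : k ≤ 1 + q + q ^ 2 + q ^ 3 + q ^ 4 + q ^ 5 +
            (3 * (1 + q + q ^ 2) + 8 * (1 + q)) := by
          refine le_trans hb ?_
          rw [if_neg h6, if_pos h3]
          split_ifs <;> omega
        obtain ⟨s, rfl⟩ : ∃ s, q = s + 4 := ⟨q - 4, by omega⟩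
        refine le_trans hb' ?_
        ring_nf
        omega
      · by_cases h2 : 2 ∣ q - 1
        · have := hr1 2 (by omega) h2
          have hb' : k ≤ 1 + q + q ^ 2 + q ^ 3 + q ^ 4 + q ^ 5 + 3 * (1 + q + q ^ 2) := by
            refine le_trans hb ?_
            rw [if_neg h6, if_neg h3, if_pos h2]
            omega
          obtain ⟨s, rfl⟩ : ∃ s, q = s + 3 := ⟨q - 3, by omega⟩
          refine le_trans hb' ?_
          ring_nf
          omega
        · have hb' : k ≤ 1 + q + q ^ 2 + q ^ 3 + q ^ 4 + q ^ 5 := by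
            refine le_trans hb ?_
            rw [if_neg h6, if_neg h3, if_neg h2]
            omega
          obtain ⟨s, rfl⟩ : ∃ s, q = s + 2 := ⟨q - 2, by omega⟩
          refine le_trans hb' ?_
          ring_nf
          omega
  · -- n ≥ 7
    apply key (by omega)
    have h1 := sum_Dset_le q n hq h7
    obtain ⟨m, rfl⟩ : ∃ m, n = m + 3 := ⟨n - 3, by omega⟩
    have h2 : geo q (m + 3) = geo q (m + 1) + q ^ (m + 1) + q ^ (m + 2) := by
      rw [geo_succ, geo_succ]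
    have h3 := geo_le q hq m
    have h4 : 2 * q ^ m ≤ q ^ (m + 1) := by
      rw [pow_succ]
      nlinarith [Nat.pow_pos (n := m) (by omega : 0 < q)]
    have e1 : m + 3 - 1 = m + 2 := by omega
    have e2 : m + 3 - 2 = m + 1 := by omega
    rw [e1, e2]
    rw [e2] at h1
    omega

end Cfsg.Agent.SLk
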