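import Cfsg.Agent.Lib.SLk.Defs
import Cfsg.Agent.Lib.SLk.Cyclic

/-!
# S2479, step P2: uniformity over the constant terms
-/

set_option autoImplicit false

universe u

namespace Cfsg.Agent.SLk

open Polynomial Cfsg.Agent.S2478L

variable {F : Type u} [Field F]

/-- Rescale the constant terms of the non-trivial entries of a tuple. -/
noncomputable def act {n : ℕ} (a : Fin n → Fˣ) (t : Fin n → F[X]) : Fin n → F[X] :=
  fun j => if (t j).natDegree = 0 then t j else t j + C (((a j : F) - 1) * (t j).coeff 0)

theorem natDegree_act {n : ℕ} (a : Fin n → Fˣ) (t : Fin n → F[X]) (j : Fin n) :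
    (act a t j).natDegree = (t j).natDegree := by
  unfold act
  split_ifs with h
  · rfl
  · rw [natDegree_add_C]

theorem act_of_natDegree_eq_zero {n : ℕ} (a : Fin n → Fˣ) (t : Fin n → F[X]) (j : Fin n)
    (h : (t j).natDegree = 0) : act a t j = t j := by
  unfold act
  rw [if_pos h]

theorem act_of_natDegree_ne_zero {n : ℕ} (a : Fin n → Fˣ) (t : Fin n → F[X]) (j : Fin n)
    (h : (t j).natDegree ≠ 0) : act a t j = t j + C (((a j : F) - 1) * (t j).coeff 0) := by
  unfold act
  rw [if_neg h]

theorem coeff_zero_act {n : ℕ} (a : Fin n → Fˣ) (t : Fin n → F[X]) (j : Fin n)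
    (h : (t j).natDegree ≠ 0) : (act a t j).coeff 0 = (a j : F) * (t j).coeff 0 := by
  rw [act_of_natDegree_ne_zero a t j h, coeff_add, coeff_C_zero]
  ring

theorem act_one {n : ℕ} (t : Fin n → F[X]) : act (1 : Fin n → Fˣ) t = t := by
  funext j
  by_cases h : (t j).natDegree = 0
  · exact act_of_natDegree_eq_zero _ _ _ h
  · rw [act_of_natDegree_ne_zero _ _ _ h]
    simp

theorem act_mul {n : ℕ} (a b : Fin n → Fˣ) (t : Fin n → F[X]) :
    act a (act b t) = act (a * b) t := by
  funext j
  by_cases h : (t j).natDegree = 0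
  · have h' : (act b t j).natDegree = 0 := by rw [natDegree_act]; exact h
    rw [act_of_natDegree_eq_zero _ _ _ h', act_of_natDegree_eq_zero _ _ _ h,
      act_of_natDegree_eq_zero _ _ _ h]
  · have h' : (act b t j).natDegree ≠ 0 := by rw [natDegree_act]; exact h
    rw [act_of_natDegree_ne_zero _ _ _ h', coeff_zero_act _ _ _ h,
      act_of_natDegree_ne_zero _ _ _ h, act_of_natDegree_ne_zero _ _ _ h, add_assoc, ← C_add]
    congr 2
    simp only [Pi.mul_apply, Units.val_mul]
    ring

theorem act_mem_Tup {n : ℕ} (a : Fin n → Fˣ) {t : Fin n → F[X]} (ht : t ∈ Tup F n n) :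
    act a t ∈ Tup F n n := by
  obtain ⟨h1, h2⟩ := ht
  refine ⟨fun j => ?_, ?_⟩
  · by_cases h : (t j).natDegree = 0
    · rw [act_of_natDegree_eq_zero _ _ _ h]
      exact h1 j
    · refine ⟨?_, ?_⟩
      · rw [act_of_natDegree_ne_zero _ _ _ h]
        apply (h1 j).1.add_of_left
        refine lt_of_le_of_lt degree_C_le ?_
        rw [← natDegree_pos_iff_degree_pos]
        omega
      · rw [coeff_zero_act _ _ _ h]
        exact mul_ne_zero (a j).ne_zero (h1 j).2
  · simp only [natDegree_act]
    exact h2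

theorem blocks_act {n : ℕ} (a : Fin n → Fˣ) {t : Fin n → F[X]} (ht : t ∈ Tup F n n) :
    blocks (act a t) = blocks t := by
  ext j
  rw [mem_blocks, mem_blocks]
  have h1 := ((act_mem_Tup a ht).1 j).1
  have h2 := (ht.1 j).1
  rw [Ne, Ne, ← h1.natDegree_eq_zero, ← h2.natDegree_eq_zero, natDegree_act]

theorem gw_act (q : ℕ) {n : ℕ} (a : Fin n → Fˣ) {t : Fin n → F[X]} (ht : t ∈ Tup F n n) :
    gw q (act a t) = gw q t := by
  unfold gw
  rw [blocks_act a ht]

/-- The homomorphism recording the effect of `act` on `delta`. -/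
noncomputable def piHom {n : ℕ} (t : Fin n → F[X]) : (Fin n → Fˣ) →* Fˣ where
  toFun a := ∏ j ∈ blocks t, a j ^ ((j : ℕ) + 1)
  map_one' := by simp
  map_mul' a b := by
    simp only [Pi.mul_apply, mul_pow]
    rw [Finset.prod_mul_distrib]

theorem piHom_apply {n : ℕ} (t : Fin n → F[X]) (a : Fin n → Fˣ) :
    piHom t a = ∏ j ∈ blocks t, a j ^ ((j : ℕ) + 1) := rfl

theorem delta_act {n : ℕ} (a : Fin n → Fˣ) {t : Fin n → F[X]} (ht : t ∈ Tup F n n) :
    delta (act a t) = delta t * ((piHom t a : Fˣ) : F) := by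
  classical
  unfold delta
  rw [piHom_apply, Units.coe_prod, blocks, Finset.prod_filter, ← Finset.prod_mul_distrib]
  apply Finset.prod_congr rfl
  intro j _
  by_cases h : t j = 1
  · have h0 : (t j).natDegree = 0 := by rw [h]; simp
    rw [act_of_natDegree_eq_zero _ _ _ h0]
    simp [h]
  · have h0 : (t j).natDegree ≠ 0 := by
      rw [Ne, (ht.1 j).1.natDegree_eq_zero]
      exact h
    rw [coeff_zero_act _ _ _ h0, if_pos h, mul_pow, Units.val_pow_eq_pow_val]
    ring

theorem index_range_piHom_dvd [Fintype F] {n : ℕ} (t : Fin n → F[X]) :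
    (piHom t).range.index ∣ gw (Fintype.card F) t := by
  classical
  have : IsCyclic Fˣ := inferInstance
  unfold gw
  apply Nat.dvd_gcd
  · have := Subgroup.index_dvd_card (piHom t).range
    rwa [Nat.card_eq_fintype_card, Fintype.card_units] at this
  · apply Finset.dvd_gcd
    intro j hj
    apply index_dvd_of_forall_pow_mem
    intro x
    refine ⟨Pi.mulSingle j x, ?_⟩
    rw [piHom_apply, Finset.prod_eq_single j]
    · simp
    · intro i _ hij
      rw [Pi.mulSingle_eq_of_ne hij, one_pow]
    · intro h; exact absurd hj h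

/-- The basic count: for fixed `t`, few `a` move `delta t` to a given value. -/
theorem card_act_delta_le [Fintype F] [DecidableEq F] {n : ℕ} {t : Fin n → F[X]}
    (ht : t ∈ Tup F n n) (δ0 : F) :
    (Fintype.card F - 1) * (Finset.univ.filter (fun a : Fin n → Fˣ => delta (act a t) = δ0)).card ≤
      Fintype.card (Fin n → Fˣ) * gw (Fintype.card F) t := by
  classical
  have hq : 2 ≤ Fintype.card F := Fintype.one_lt_card
  have hg0 : 0 < gw (Fintype.card F) t :=
    Nat.pos_of_dvd_of_pos (gw_dvd_pred _ t) (by omega)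
  by_cases hne : ∃ a0 : Fin n → Fˣ, delta (act a0 t) = δ0
  · obtain ⟨a0, ha0⟩ := hne
    have hsub : Finset.univ.filter (fun a : Fin n → Fˣ => delta (act a t) = δ0) ⊆
        Finset.univ.filter (fun a : Fin n → Fˣ => piHom t a = piHom t a0) := by
      intro a ha
      rw [Finset.mem_filter] at ha ⊢
      refine ⟨Finset.mem_univ _, ?_⟩
      have h1 := ha.2
      rw [← ha0, delta_act a ht, delta_act a0 ht] at h1
      have hd : delta t ≠ 0 := by
        unfold delta
        exact Finset.prod_ne_zero_iff.mpr (fun j _ => pow_ne_zero _ (ht.1 j).2)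
      exact Units.ext (mul_left_cancel₀ hd h1)
    have h2 := card_fibre_hom_le (piHom t) (gw (Fintype.card F) t) hg0
      (index_range_piHom_dvd t) (piHom t a0)
    rw [Fintype.card_units] at h2
    exact le_trans (Nat.mul_le_mul_left _ (Finset.card_le_card hsub)) h2
  · have : Finset.univ.filter (fun a : Fin n → Fˣ => delta (act a t) = δ0) = ∅ := by
      rw [Finset.filter_eq_empty_iff]
      intro a _ ha
      exact hne ⟨a, ha⟩
    rw [this, Finset.card_empty, Nat.mul_zero]
    exact Nat.zero_le _

/-- **P2.**  Uniformity over the constant terms. -/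
theorem uniformity [Fintype F] [DecidableEq F] {n : ℕ} (Tf : Finset (Fin n → F[X]))
    (hTf : ∀ t, t ∈ Tf ↔ t ∈ Tup F n n) (δ0 : F) :
    (Fintype.card F - 1) * ∑ t ∈ Tf.filter (fun t => delta t = δ0), gw (Fintype.card F) t ≤
      ∑ t ∈ Tf, gw (Fintype.card F) t ^ 2 := by
  set q := Fintype.card F with hq
  set A := Fintype.card (Fin n → Fˣ) with hA
  have hApos : 0 < A := Fintype.card_pos
  -- step 1: for every `a` the sum is unchanged
  have h1 : ∀ a : Fin n → Fˣ,
      ∑ t ∈ Tf.filter (fun t => delta (act a t) = δ0), gw q t =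
        ∑ t ∈ Tf.filter (fun t => delta t = δ0), gw q t := by
    intro a
    apply Finset.sum_nbij' (act a) (act a⁻¹)
    · intro t ht
      rw [Finset.mem_filter] at ht ⊢
      exact ⟨(hTf _).mpr (act_mem_Tup a ((hTf _).mp ht.1)), ht.2⟩
    · intro t ht
      rw [Finset.mem_filter] at ht ⊢
      refine ⟨(hTf _).mpr (act_mem_Tup a⁻¹ ((hTf _).mp ht.1)), ?_⟩
      rw [act_mul, mul_inv_cancel, act_one]
      exact ht.2
    · intro t _
      rw [act_mul, inv_mul_cancel, act_one]
    · intro t _
      rw [act_mul, mul_inv_cancel, act_one]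
    · intro t ht
      rw [Finset.mem_filter] at ht
      rw [gw_act q a ((hTf _).mp ht.1)]
  -- step 2: double counting
  have h2 : A * ∑ t ∈ Tf.filter (fun t => delta t = δ0), gw q t =
      ∑ t ∈ Tf, gw q t * (Finset.univ.filter (fun a : Fin n → Fˣ => delta (act a t) = δ0)).card := by
    calc A * ∑ t ∈ Tf.filter (fun t => delta t = δ0), gw q t
        = ∑ _a : Fin n → Fˣ, ∑ t ∈ Tf.filter (fun t => delta t = δ0), gw q t := by
          rw [Finset.sum_const, Finset.card_univ, smul_eq_mul]
      _ = ∑ a : Fin n → Fˣ, ∑ t ∈ Tf.filter (fun t => delta (act a t) = δ0), gw q t := by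
          apply Finset.sum_congr rfl
          intro a _
          rw [h1 a]
      _ = ∑ a : Fin n → Fˣ, ∑ t ∈ Tf, if delta (act a t) = δ0 then gw q t else 0 := by
          apply Finset.sum_congr rfl
          intro a _
          rw [Finset.sum_filter]
      _ = ∑ t ∈ Tf, ∑ a : Fin n → Fˣ, if delta (act a t) = δ0 then gw q t else 0 := Finset.sum_comm
      _ = _ := by
          apply Finset.sum_congr rfl
          intro t _
          rw [← Finset.sum_filter, Finset.sum_const, smul_eq_mul, mul_comm]
  have h3 : A * ((q - 1) * ∑ t ∈ Tf.filter (fun t => delta t = δ0), gw q t) ≤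
      A * ∑ t ∈ Tf, gw q t ^ 2 := by
    calc A * ((q - 1) * ∑ t ∈ Tf.filter (fun t => delta t = δ0), gw q t)
        = (q - 1) * (A * ∑ t ∈ Tf.filter (fun t => delta t = δ0), gw q t) := by ring
      _ = ∑ t ∈ Tf, gw q t * ((q - 1) *
            (Finset.univ.filter (fun a : Fin n → Fˣ => delta (act a t) = δ0)).card) := by
          rw [h2, Finset.mul_sum]
          apply Finset.sum_congr rfl
          intro t _
          ring
      _ ≤ ∑ t ∈ Tf, gw q t * (A * gw q t) := by
          apply Finset.sum_le_sum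
          intro t ht
          have := card_act_delta_le ((hTf _).mp ht) δ0
          exact Nat.mul_le_mul_left _ this
      _ = A * ∑ t ∈ Tf, gw q t ^ 2 := by
          rw [Finset.mul_sum]
          apply Finset.sum_congr rfl
          intro t _
          ring
  exact Nat.le_of_mul_le_mul_left h3 hApos

end Cfsg.Agent.SLk
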