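import Cfsg.Agent.Lib.SLk.Lower
import Cfsg.Agent.Lib.SLk.Uniform
import Cfsg.Agent.Lib.SLk.Num

/-!
# S2479: assembly of the bounds for `k(SL_n(q))`, modulo the fibre bound and the determinant formula
-/

set_option autoImplicit false

universe u

namespace Cfsg.Agent.SLk

open Polynomial Cfsg.Agent.S2478L

variable {F : Type u} [Field F]

theorem SL_bounds_of [Fintype F] (n : ℕ) (hn : 2 ≤ n)
    (hdet : ∀ g : GL (Fin n) F,
      (g : Matrix (Fin n) (Fin n) F).det = (-1) ^ n * delta (inv g))
    (hfib : ∀ (t : Fin n → F[X])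
      (rep : ConjClasses (Matrix.SpecialLinearGroup (Fin n) F) → Matrix.SpecialLinearGroup (Fin n) F),
      (∀ c, ConjClasses.mk (rep c) = c) →
        Nat.card {c // typeSL (rep c) = t} ≤ gw (Fintype.card F) t) :
    Fintype.card F ^ (n - 1) < Nat.card (ConjClasses (Matrix.SpecialLinearGroup (Fin n) F)) ∧
      2 * Nat.card (ConjClasses (Matrix.SpecialLinearGroup (Fin n) F)) ≤
        5 * Fintype.card F ^ (n - 1) ∧
      (3 ≤ n → Nat.card (ConjClasses (Matrix.SpecialLinearGroup (Fin n) F)) ≤
        Fintype.card F ^ (n - 1) + 3 * Fintype.card F ^ (n - 2)) := by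
  classical
  refine ⟨lower_bound_SL n hn, ?_⟩
  set q := Fintype.card F with hqdef
  have hq : 2 ≤ q := Fintype.one_lt_card
  have hfinT : (Tup F n n).Finite := (Tup_bound (F := F) n n).1
  set Tf : Finset (Fin n → F[X]) := hfinT.toFinset with hTfdef
  have hTf : ∀ t, t ∈ Tf ↔ t ∈ Tup F n n := fun t => Set.Finite.mem_toFinset hfinT
  choose rep hrep using fun c : ConjClasses (Matrix.SpecialLinearGroup (Fin n) F) =>
    ConjClasses.exists_rep c
  set δ1 : F := (-1) ^ n with hδ1
  have : Fintype (ConjClasses (Matrix.SpecialLinearGroup (Fin n) F)) := Fintype.ofFinite _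
  -- every class has a type in `Tf` with `delta = (-1)^n`
  have htyp : ∀ c, typeSL (rep c) ∈ Tf.filter (fun t => delta t = δ1) := by
    intro c
    rw [Finset.mem_filter]
    refine ⟨(hTf _).mpr (inv_mem_Tup _), ?_⟩
    have h1 := hdet (Matrix.SpecialLinearGroup.toGL (rep c))
    have h2 : ((Matrix.SpecialLinearGroup.toGL (rep c) : GL (Fin n) F) :
        Matrix (Fin n) (Fin n) F).det = 1 := (rep c).2
    rw [h2] at h1
    have h3 : ((-1 : F) ^ n) * (-1) ^ n = 1 := by
      rw [← mul_pow]; simp
    have h4 : delta (typeSL (rep c)) = (-1) ^ n * ((-1) ^ n * delta (typeSL (rep c))) := by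
      rw [← mul_assoc, h3, one_mul]
    rw [h4]
    unfold typeSL
    rw [← h1, mul_one]
  -- count the classes by type
  have hcount : Nat.card (ConjClasses (Matrix.SpecialLinearGroup (Fin n) F)) ≤
      ∑ t ∈ Tf.filter (fun t => delta t = δ1), gw q t := by
    rw [Nat.card_eq_fintype_card, ← Finset.card_univ,
      Finset.card_eq_sum_card_fiberwise (f := fun c => typeSL (rep c))
        (t := Tf.filter (fun t => delta t = δ1)) (fun c _ => htyp c)]
    apply Finset.sum_le_sum
    intro t _
    have := hfib t rep hrep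
    rw [Nat.card_eq_fintype_card, Fintype.card_subtype] at this
    exact this
  have hP2 := uniformity Tf hTf δ1
  have hP3 := sum_gw_sq_le (F := F) q hq (by omega : 1 ≤ n) Tf hTf
  have hcard : Tf.card = (Tup F n n).ncard := by
    rw [hTfdef, Set.ncard_eq_toFinset_card _ hfinT]
  have hmain : (q - 1) * Nat.card (ConjClasses (Matrix.SpecialLinearGroup (Fin n) F)) ≤
      (Tup F n n).ncard + ∑ e ∈ Dset n q, (e ^ 2 - 1) * (Tup F (n / e) (n / e)).ncard := by
    rw [← hcard]
    exact le_trans (Nat.mul_le_mul_left _ hcount) (le_trans hP2 hP3)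
  refine numeric q n _ hq hn (Tup F n n).ncard (fun m => (Tup F m m).ncard)
    (Tup_ncard_succ_le n (by omega)) ?_ (fun m hm => Tup_ncard_succ_le m hm) hmain
  rintro rfl
  exact Tup_three_ncard_le

end Cfsg.Agent.SLk
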