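import Cfsg.Agent.Lib.SLk.PSLMain

/-!
# S2480: final assembly, modulo the twist-invariance of the types of fixed classes
-/

set_option autoImplicit false

universe u

namespace Cfsg.Agent.SLk

open Polynomial Cfsg.Agent.S2478L

variable {F : Type u} [Field F]

theorem PSL_bounds_of [Fintype F] (n : ℕ) (hn : 2 ≤ n)
    (hU : ∀ (g s : GL (Fin n) F) (lam : Fˣ),
      (s : Matrix (Fin n) (Fin n) F) = (lam : F) • (1 : Matrix (Fin n) (Fin n) F) →
      IsConj (s * g) g → ∀ j, scaleRoots (inv g j) (lam : F) = inv g j) :
    Fintype.card F ^ (n - 1) ≤ Nat.gcd n (Fintype.card F - 1) *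
        Nat.card (ConjClasses (Matrix.ProjectiveSpecialLinearGroup (Fin n) F)) ∧
      Nat.gcd n (Fintype.card F - 1) *
        Nat.card (ConjClasses (Matrix.ProjectiveSpecialLinearGroup (Fin n) F)) ≤
        Fintype.card F ^ (n - 1) + 5 * Fintype.card F ^ (n - 2) := by
  classical
  have hq : 2 ≤ Fintype.card F := Fintype.one_lt_card
  set Z := Subgroup.center (Matrix.SpecialLinearGroup (Fin n) F) with hZdef
  have : Fintype Z := Fintype.ofFinite _
  have hd : Nat.card Z = Nat.gcd n (Fintype.card F - 1) := card_center_SL n (by omega)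
  choose rep hrep using fun c : ConjClasses (Matrix.SpecialLinearGroup (Fin n) F) =>
    ConjClasses.exists_rep c
  have hB := card_mul_card_conjClasses_quotient Z le_rfl rep hrep
  set N : Z → ℕ := fun z => Nat.card {c : ConjClasses (Matrix.SpecialLinearGroup (Fin n) F) //
    IsConj ((z : Matrix.SpecialLinearGroup (Fin n) F) * rep c) (rep c)} with hN
  set kS := Nat.card (ConjClasses (Matrix.SpecialLinearGroup (Fin n) F)) with hkS
  have hN1 : N 1 = kS := by
    simp only [hN]
    apply Nat.card_congr
    refine (Equiv.subtypeUnivEquiv ?_)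
    intro c
    rw [Subgroup.coe_one, one_mul]
  -- the classes fixed by a non-trivial central element
  have hNz : ∀ z : Z, z ≠ 1 → N z ≤ (geo (Fintype.card F) (n / 2) +
    ∑ e ∈ Dset n (Fintype.card F), (e ^ 2 - 1) * geo (Fintype.card F) (n / e / 2)) := by
    intro z hz
    obtain ⟨r, hr1, hr2⟩ := Matrix.SpecialLinearGroup.mem_center_iff.mp z.2
    have hr0 : r ≠ 0 := by
      rintro rfl
      rw [Fintype.card_fin, zero_pow (by omega)] at hr1
      exact zero_ne_one hr1
    set lam : Fˣ := Units.mk0 r hr0 with hlam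
    have hlam1 : lam ≠ 1 := by
      intro h
      apply hz
      have hr : r = 1 := by
        have := congrArg Units.val h
        simpa [hlam] using this
      apply Subtype.ext
      apply Subtype.ext
      rw [← hr2, hr, map_one]
      rfl
    apply fixed_class_le n (by omega) rep hrep lam hlam1
    intro c hc
    refine ⟨inv_mem_Tup _, fun j => ?_⟩
    apply hU (Matrix.SpecialLinearGroup.toGL (rep c))
      (Matrix.SpecialLinearGroup.toGL (z : Matrix.SpecialLinearGroup (Fin n) F)) lam
    · show ((z : Matrix.SpecialLinearGroup (Fin n) F) : Matrix (Fin n) (Fin n) F) = _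
      rw [← hr2, Matrix.scalar_apply, Matrix.smul_one_eq_diagonal]
      rfl
    · rw [← map_mul]
      exact (Matrix.SpecialLinearGroup.toGL (n := Fin n) (R := F)).map_isConj hc
  -- Burnside
  have hsum : ∑ z : Z, N z = N 1 + ∑ z ∈ Finset.univ.erase (1 : Z), N z :=
    (Finset.add_sum_erase Finset.univ N (Finset.mem_univ 1)).symm
  have hle : ∑ z ∈ Finset.univ.erase (1 : Z), N z ≤ (Nat.card Z - 1) * (geo (Fintype.card F) (n / 2) +
    ∑ e ∈ Dset n (Fintype.card F), (e ^ 2 - 1) * geo (Fintype.card F) (n / e / 2)) := by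
    have := Finset.sum_le_card_nsmul (Finset.univ.erase (1 : Z)) N (geo (Fintype.card F) (n / 2) +
    ∑ e ∈ Dset n (Fintype.card F), (e ^ 2 - 1) * geo (Fintype.card F) (n / e / 2))
      (fun z hz => hNz z (Finset.ne_of_mem_erase hz))
    rw [Finset.card_erase_of_mem (Finset.mem_univ _), Finset.card_univ, smul_eq_mul,
      ← Nat.card_eq_fintype_card] at this
    exact this
  have hSL := SL_bounds_of (F := F) n hn (fun g => det_eq_delta g)
    (fun t rep hrep => card_fibre_le t rep hrep)
  rw [hd] at hB hle
  have hB' : Nat.gcd n (Fintype.card F - 1) *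
      Nat.card (ConjClasses (Matrix.ProjectiveSpecialLinearGroup (Fin n) F)) = ∑ z : Z, N z := hB
  constructor
  · rw [hB', hsum, hN1]
    have := hSL.1
    omega
  · apply numeric_PSL (Fintype.card F) n _ kS _ hq hn rfl
    · exact hSL.2.2
    · intro hn2
      have h2 : kS ≤ geo (Fintype.card F) n + ∑ e ∈ Dset n (Fintype.card F),
          (e ^ 2 - 1) * geo (Fintype.card F) (n / e) := SL_class_le_geo (F := F) n (by omega)
      rw [hn2, sum_Dset_two] at h2
      simp only [geo, Finset.sum_range_succ, Finset.sum_range_zero] at h2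
      norm_num at h2
      refine le_trans h2 ?_
      split_ifs <;> omega
    · rw [hB', hsum, hN1]
      omega

end Cfsg.Agent.SLk
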