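import Cfsg.Agent.Lib.SLk.Num

/-!
# S2480: the numerical part
-/

set_option autoImplicit false

namespace Cfsg.Agent.SLk

theorem geo_succ_le_pow (q : ℕ) (hq : 2 ≤ q) (m : ℕ) : geo q m + 1 ≤ q ^ m := by
  obtain ⟨r, rfl⟩ : ∃ r, q = r + 1 := ⟨q - 1, by omega⟩
  have h := pred_mul_geo r m
  have hr : 1 ≤ r := by omega
  nlinarith

/-- Divide the basic inequality for the fixed classes by `q - 1`. -/
theorem k_le_of_half (q n k : ℕ) (hq : 2 ≤ q) (I : ℕ → ℕ)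
    (hI : ∀ m, 1 ≤ m → I m + 1 ≤ q ^ (m / 2)) (hn : 1 ≤ n)
    (h : (q - 1) * k ≤ I n + ∑ e ∈ Dset n q, (e ^ 2 - 1) * I (n / e)) :
    k ≤ geo q (n / 2) + ∑ e ∈ Dset n q, (e ^ 2 - 1) * geo q (n / e / 2) := by
  obtain ⟨r, rfl⟩ : ∃ r, q = r + 1 := ⟨q - 1, by omega⟩
  have hr : 0 < r := by omega
  simp only [Nat.add_sub_cancel] at *
  have hI' : ∀ m, 1 ≤ m → I m ≤ r * geo (r + 1) (m / 2) := by
    intro m hm
    have h2 := hI m hm
    have h3 := pred_mul_geo r (m / 2)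
    omega
  have h1 : ∀ e ∈ Dset n (r + 1), (e ^ 2 - 1) * I (n / e) ≤
      r * ((e ^ 2 - 1) * geo (r + 1) (n / e / 2)) := by
    intro e he
    have he' := mem_Dset.mp he
    have hpos : 1 ≤ n / e := Nat.div_pos he'.1.2 (by omega)
    calc (e ^ 2 - 1) * I (n / e) ≤ (e ^ 2 - 1) * (r * geo (r + 1) (n / e / 2)) :=
          Nat.mul_le_mul_left _ (hI' _ hpos)
      _ = _ := by ring
  have h5 : r * k ≤ r * (geo (r + 1) (n / 2) +
      ∑ e ∈ Dset n (r + 1), (e ^ 2 - 1) * geo (r + 1) (n / e / 2)) := by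
    rw [mul_add, Finset.mul_sum]
    exact le_trans h (Nat.add_le_add (hI' n hn) (Finset.sum_le_sum h1))
  exact Nat.le_of_mul_le_mul_left h5 hr

/-- The uniform estimate for `n ≥ 7`. -/
theorem sum_Dset_half_le (q n : ℕ) (hq : 2 ≤ q) (hn : 7 ≤ n) :
    3 * ((q - 2) * (geo q (n / 2) + ∑ e ∈ Dset n q, (e ^ 2 - 1) * geo q (n / e / 2))) ≤
      4 * q ^ (n - 2) := by
  have hqpos : 0 < q := by omega
  have h1 : ∀ e ∈ Dset n q, (e ^ 2 - 1) * geo q (n / e / 2) ≤ e ^ 2 * q ^ (n / 4) := by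
    intro e he
    have he' := mem_Dset.mp he
    have h2 := geo_succ_le_pow q hq (n / e / 2)
    have h3 : n / e / 2 ≤ n / 4 := by
      rw [Nat.div_div_eq_div_mul]
      exact Nat.div_le_div_left (by omega) (by omega)
    have h4 : q ^ (n / e / 2) ≤ q ^ (n / 4) := Nat.pow_le_pow_right hqpos h3
    exact Nat.mul_le_mul (Nat.sub_le _ _) (by omega)
  have h2 : Dset n q ⊆ Finset.range q := by
    intro e he
    have he' := mem_Dset.mp he
    have := Nat.le_of_dvd (by omega) he'.2.2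
    rw [Finset.mem_range]
    omega
  have h3 : ∑ e ∈ Dset n q, e ^ 2 * q ^ (n / 4) ≤
      (∑ e ∈ Finset.range q, e ^ 2) * q ^ (n / 4) := by
    rw [← Finset.sum_mul]
    exact Nat.mul_le_mul_right _ (Finset.sum_le_sum_of_subset h2)
  have h4 := three_mul_sum_sq_le q
  have h6 := le_trans (Finset.sum_le_sum h1) h3
  have h7 := geo_succ_le_pow q hq (n / 2)
  set S := ∑ e ∈ Dset n q, (e ^ 2 - 1) * geo q (n / e / 2) with hS
  set Q := ∑ e ∈ Finset.range q, e ^ 2 with hQ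
  have h8 : q * q ^ (n / 2) ≤ q ^ (n - 2) := by
    rw [← pow_succ']
    exact Nat.pow_le_pow_right hqpos (by omega)
  have h9 : q * (q ^ 3 * q ^ (n / 4)) ≤ q ^ (n - 2) := by
    rw [← pow_add, ← pow_succ']
    exact Nat.pow_le_pow_right hqpos (by omega)
  have h10 : 3 * S ≤ q ^ 3 * q ^ (n / 4) := by
    calc 3 * S ≤ 3 * (Q * q ^ (n / 4)) := Nat.mul_le_mul_left _ h6
      _ = (3 * Q) * q ^ (n / 4) := by ring
      _ ≤ q ^ 3 * q ^ (n / 4) := Nat.mul_le_mul_right _ h4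
  have h11 : (q - 2) * (3 * geo q (n / 2)) ≤ q * (3 * q ^ (n / 2)) :=
    Nat.mul_le_mul (Nat.sub_le _ _) (by omega)
  have h12 : (q - 2) * (3 * S) ≤ q * (q ^ 3 * q ^ (n / 4)) :=
    Nat.mul_le_mul (Nat.sub_le _ _) h10
  calc 3 * ((q - 2) * (geo q (n / 2) + S))
      = (q - 2) * (3 * geo q (n / 2)) + (q - 2) * (3 * S) := by ring
    _ ≤ q * (3 * q ^ (n / 2)) + q * (q ^ 3 * q ^ (n / 4)) := Nat.add_le_add h11 h12
    _ = 3 * (q * q ^ (n / 2)) + q * (q ^ 3 * q ^ (n / 4)) := by ring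
    _ ≤ 3 * q ^ (n - 2) + q ^ (n - 2) := Nat.add_le_add (Nat.mul_le_mul_left _ h8) h9
    _ = 4 * q ^ (n - 2) := by ring

/-- The numerical conclusion for `PSL_n`. -/
theorem numeric_PSL (q n d kS kP : ℕ) (hq : 2 ≤ q) (hn : 2 ≤ n) (hd : d = Nat.gcd n (q - 1))
    (hS3 : 3 ≤ n → kS ≤ q ^ (n - 1) + 3 * q ^ (n - 2))
    (hS2 : n = 2 → kS ≤ q + 1 + (if 2 ∣ q - 1 then 3 else 0))
    (hP : d * kP ≤ kS + (d - 1) *
      (geo q (n / 2) + ∑ e ∈ Dset n q, (e ^ 2 - 1) * geo q (n / e / 2))) :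
    d * kP ≤ q ^ (n - 1) + 5 * q ^ (n - 2) := by
  have hd1 : d ∣ q - 1 := hd ▸ Nat.gcd_dvd_right _ _
  have hdle : d - 1 ≤ q - 2 := by
    have := Nat.le_of_dvd (by omega) hd1
    omega
  -- reduction for `n ≥ 3`
  have key : 3 ≤ n → (q - 2) * (geo q (n / 2) +
      ∑ e ∈ Dset n q, (e ^ 2 - 1) * geo q (n / e / 2)) ≤ 2 * q ^ (n - 2) →
      d * kP ≤ q ^ (n - 1) + 5 * q ^ (n - 2) := by
    intro h3 hB
    have h1 := hS3 h3
    have h2 : (d - 1) * (geo q (n / 2) + ∑ e ∈ Dset n q, (e ^ 2 - 1) * geo q (n / e / 2)) ≤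
        (q - 2) * (geo q (n / 2) + ∑ e ∈ Dset n q, (e ^ 2 - 1) * geo q (n / e / 2)) :=
      Nat.mul_le_mul_right _ hdle
    omega
  rcases (by omega : n = 2 ∨ n = 3 ∨ n = 4 ∨ n = 5 ∨ n = 6 ∨ 7 ≤ n) with
    rfl | rfl | rfl | rfl | rfl | h7
  · -- n = 2
    have h2 := hS2 rfl
    rw [sum_Dset_two] at hP
    simp only [geo, Finset.sum_range_succ, Finset.sum_range_zero] at hP
    norm_num at hP
    norm_num
    by_cases hodd : 2 ∣ q - 1
    · rw [if_pos hodd] at h2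
      have hd2 : d ≤ 2 := by
        rw [hd]
        exact Nat.le_of_dvd (by omega) (Nat.gcd_dvd_left _ _)
      have : (d - 1) * 1 ≤ 1 := by omega
      nlinarith
    · rw [if_neg hodd] at h2
      have hd1' : d = 1 := by
        rw [hd]
        have h1 : Nat.gcd 2 (q - 1) ∣ 2 := Nat.gcd_dvd_left _ _
        have h3 : Nat.gcd 2 (q - 1) ∣ q - 1 := Nat.gcd_dvd_right _ _
        have h4 : Nat.gcd 2 (q - 1) ≤ 2 := Nat.le_of_dvd (by omega) h1
        have h5 : 0 < Nat.gcd 2 (q - 1) := Nat.gcd_pos_of_pos_left _ (by omega)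
        rcases (by omega : Nat.gcd 2 (q - 1) = 1 ∨ Nat.gcd 2 (q - 1) = 2) with h | h
        · exact h
        · rw [h] at h3
          exact absurd h3 hodd
      rw [hd1'] at hP ⊢
      omega
  · -- n = 3
    apply key (by omega)
    rw [sum_Dset_three]
    simp only [geo, Finset.sum_range_succ, Finset.sum_range_zero]
    norm_num
    nlinarith
  · -- n = 4
    apply key (by omega)
    rw [sum_Dset_four]
    simp only [geo, Finset.sum_range_succ, Finset.sum_range_zero]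
    norm_num
    have hb : (1 + q + ((if 2 ∣ q - 1 then 3 else 0) : ℕ)) ≤ q + 4 := by
      split_ifs <;> omega
    obtain ⟨s, rfl⟩ : ∃ s, q = s + 2 := ⟨q - 2, by omega⟩
    simp only [Nat.add_sub_cancel]
    refine le_trans (Nat.mul_le_mul_left _ hb) ?_
    ring_nf
    omega
  · -- n = 5
    apply key (by omega)
    rw [sum_Dset_five]
    simp only [geo, Finset.sum_range_succ, Finset.sum_range_zero]
    norm_num
    obtain ⟨s, rfl⟩ : ∃ s, q = s + 2 := ⟨q - 2, by omega⟩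
    simp only [Nat.add_sub_cancel]
    ring_nf
    omega
  · -- n = 6
    apply key (by omega)
    rw [sum_Dset_six]
    simp only [geo, Finset.sum_range_succ, Finset.sum_range_zero]
    norm_num
    have hb : (1 + q + q ^ 2 + (((if 2 ∣ q - 1 then 3 else 0) : ℕ) +
        ((if 3 ∣ q - 1 then 8 else 0) : ℕ))) ≤ q ^ 2 + q + 12 := by
      split_ifs <;> omega
    obtain ⟨s, rfl⟩ : ∃ s, q = s + 2 := ⟨q - 2, by omega⟩
    simp only [Nat.add_sub_cancel]
    refine le_trans (Nat.mul_le_mul_left _ hb) ?_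
    ring_nf
    omega
  · -- n ≥ 7
    apply key (by omega)
    have := sum_Dset_half_le q n hq h7
    omega

end Cfsg.Agent.SLk
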