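import Cfsg.Agent.Lib.SLk.Compress

/-!
# S2480: counting types invariant under a non-trivial scalar twist
-/

set_option autoImplicit false

universe u

namespace Cfsg.Agent.SLk

open Polynomial Cfsg.Agent.S2478L

variable {F : Type u} [Field F]

/-- The types of size `m` invariant under the twist by `lam`. -/
def InvTup (lam : F) (m : ℕ) : Set (Fin m → F[X]) :=
  {t | t ∈ Tup F m m ∧ ∀ j, scaleRoots (t j) lam = t j}

theorem expand_contract_of_forall (r : ℕ) (hr : 0 < r) (p : F[X])
    (h : ∀ i, p.coeff i ≠ 0 → r ∣ i) : expand F r (contract r p) = p := by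
  ext i
  rw [coeff_expand hr]
  split_ifs with hi
  · rw [coeff_contract (by omega), Nat.div_mul_cancel hi]
  · by_contra hne
    exact hi (h i (Ne.symm hne))

/-- The coefficients of a twist-invariant polynomial with non-zero constant term. -/
theorem dvd_of_scaleRoots_eq (lam : Fˣ) (p : F[X]) (h0 : p.coeff 0 ≠ 0)
    (hp : scaleRoots p (lam : F) = p) :
    orderOf lam ∣ p.natDegree ∧ ∀ i, p.coeff i ≠ 0 → orderOf lam ∣ i := by
  have key : ∀ i, p.coeff i ≠ 0 → orderOf lam ∣ p.natDegree - i := by
    intro i hi
    have h1 := congrArg (fun f => f.coeff i) hp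
    simp only [coeff_scaleRoots] at h1
    have h2 : (lam : F) ^ (p.natDegree - i) = 1 := by
      have : p.coeff i * (lam : F) ^ (p.natDegree - i) = p.coeff i * 1 := by rw [h1, mul_one]
      exact mul_left_cancel₀ hi this
    apply orderOf_dvd_of_pow_eq_one
    apply Units.ext
    rw [Units.val_pow_eq_pow_val, h2, Units.val_one]
  have hdeg : orderOf lam ∣ p.natDegree := by
    have := key 0 h0
    simpa using this
  refine ⟨hdeg, fun i hi => ?_⟩
  have hle : i ≤ p.natDegree := le_natDegree_of_ne_zero hi
  have h1 := key i hi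
  have h2 := Nat.dvd_sub hdeg h1
  rwa [Nat.sub_sub_self hle] at h2

theorem InvTup_ncard_succ_le [Fintype F] (lam : Fˣ) (hlam : lam ≠ 1) (m : ℕ) (hm : 1 ≤ m) :
    (InvTup (lam : F) m).ncard + 1 ≤ Fintype.card F ^ (m / 2) := by
  classical
  have hq2 : 2 ≤ Fintype.card F := Fintype.one_lt_card
  set r := orderOf lam with hr
  have hrpos : 0 < r := orderOf_pos lam
  have hr2 : 2 ≤ r := by
    rcases Nat.lt_or_ge r 2 with h | h
    · exfalso
      have : r = 1 := by omega
      exact hlam (orderOf_eq_one_iff.mp this)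
    · exact h
  by_cases hne : (InvTup (lam : F) m).Nonempty
  · -- the contraction map
    have hfinT : (Tup F m (m / r)).Finite := (Tup_bound (F := F) m (m / r)).1
    have hexp : ∀ t ∈ InvTup (lam : F) m, ∀ j, expand F r (contract r (t j)) = t j := by
      intro t ht j
      exact expand_contract_of_forall r hrpos (t j)
        (dvd_of_scaleRoots_eq lam (t j) (ht.1.1 j).2 (ht.2 j)).2
    have hdegsum : ∀ t ∈ InvTup (lam : F) m,
        r * ∑ j : Fin m, ((j : ℕ) + 1) * (contract r (t j)).natDegree = m := by
      intro t ht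
      refine Eq.trans ?_ ht.1.2
      rw [Finset.mul_sum]
      apply Finset.sum_congr rfl
      intro j _
      conv_rhs => rw [← hexp t ht j, natDegree_expand]
      ring
    have hmaps : ∀ t ∈ InvTup (lam : F) m, (fun j => contract r (t j)) ∈ Tup F m (m / r) := by
      intro t ht
      refine ⟨fun j => ⟨?_, ?_⟩, ?_⟩
      · rw [← monic_expand_iff hrpos, hexp t ht j]
        exact (ht.1.1 j).1
      · rw [coeff_contract (by omega), zero_mul]
        exact (ht.1.1 j).2
      · have := hdegsum t ht
        exact (Nat.div_eq_of_eq_mul_right hrpos this.symm).symm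
    have hinj : Set.InjOn (fun (t : Fin m → F[X]) (j : Fin m) => contract r (t j))
        (InvTup (lam : F) m) := by
      intro t ht t' ht' htt'
      funext j
      rw [← hexp t ht j, ← hexp t' ht' j]
      exact congrArg (expand F r) (congrFun htt' j)
    have h1 := Set.ncard_le_ncard_of_injOn _ hmaps hinj hfinT
    obtain ⟨t0, ht0⟩ := hne
    have hrm : r ∣ m := ⟨_, (hdegsum t0 ht0).symm⟩
    have hmr : 1 ≤ m / r := Nat.div_pos (Nat.le_of_dvd (by omega) hrm) hrpos
    have h2 := (Tup_bound (F := F) m (m / r)).2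
    have h3 := w_lt (Fintype.card F) (by omega) m (m / r) hmr
    have h4 : Fintype.card F ^ (m / r) ≤ Fintype.card F ^ (m / 2) :=
      Nat.pow_le_pow_right (by omega) (Nat.div_le_div_left hr2 (by omega))
    omega
  · rw [Set.not_nonempty_iff_eq_empty] at hne
    rw [hne, Set.ncard_empty]
    exact Nat.one_le_pow _ _ (by omega)

end Cfsg.Agent.SLk
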