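import Cfsg.Agent.Lib.SLk.Uniform
import Cfsg.Agent.Lib.SLk.Twist

/-!
# S2480: uniformity and weights on sets of twist-invariant types
-/

set_option autoImplicit false

universe u

namespace Cfsg.Agent.SLk

open Polynomial Cfsg.Agent.S2478L

variable {F : Type u} [Field F]

/-- Uniformity over the constant terms, on a subset closed under `act`. -/
theorem uniformity_sub [Fintype F] [DecidableEq F] {n : ℕ} (S : Finset (Fin n → F[X]))
    (hS : ∀ t ∈ S, t ∈ Tup F n n) (hact : ∀ (a : Fin n → Fˣ) t, t ∈ S → act a t ∈ S) (δ0 : F) :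
    (Fintype.card F - 1) * ∑ t ∈ S.filter (fun t => delta t = δ0), gw (Fintype.card F) t ≤
      ∑ t ∈ S, gw (Fintype.card F) t ^ 2 := by
  set q := Fintype.card F with hq
  set A := Fintype.card (Fin n → Fˣ) with hA
  have hApos : 0 < A := Fintype.card_pos
  have h1 : ∀ a : Fin n → Fˣ,
      ∑ t ∈ S.filter (fun t => delta (act a t) = δ0), gw q t =
        ∑ t ∈ S.filter (fun t => delta t = δ0), gw q t := by
    intro a
    apply Finset.sum_nbij' (act a) (act a⁻¹)
    · intro t ht
      rw [Finset.mem_filter] at ht ⊢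
      exact ⟨hact a t ht.1, ht.2⟩
    · intro t ht
      rw [Finset.mem_filter] at ht ⊢
      refine ⟨hact a⁻¹ t ht.1, ?_⟩
      rw [act_mul, mul_inv_cancel, act_one]
      exact ht.2
    · intro t _
      rw [act_mul, inv_mul_cancel, act_one]
    · intro t _
      rw [act_mul, mul_inv_cancel, act_one]
    · intro t ht
      rw [Finset.mem_filter] at ht
      rw [gw_act q a (hS t ht.1)]
  have h2 : A * ∑ t ∈ S.filter (fun t => delta t = δ0), gw q t =
      ∑ t ∈ S, gw q t * (Finset.univ.filter (fun a : Fin n → Fˣ => delta (act a t) = δ0)).card := by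
    calc A * ∑ t ∈ S.filter (fun t => delta t = δ0), gw q t
        = ∑ _a : Fin n → Fˣ, ∑ t ∈ S.filter (fun t => delta t = δ0), gw q t := by
          rw [Finset.sum_const, Finset.card_univ, smul_eq_mul]
      _ = ∑ a : Fin n → Fˣ, ∑ t ∈ S.filter (fun t => delta (act a t) = δ0), gw q t := by
          apply Finset.sum_congr rfl
          intro a _
          rw [h1 a]
      _ = ∑ a : Fin n → Fˣ, ∑ t ∈ S, if delta (act a t) = δ0 then gw q t else 0 := by
          apply Finset.sum_congr rfl
          intro a _
          rw [Finset.sum_filter]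
      _ = ∑ t ∈ S, ∑ a : Fin n → Fˣ, if delta (act a t) = δ0 then gw q t else 0 := Finset.sum_comm
      _ = _ := by
          apply Finset.sum_congr rfl
          intro t _
          rw [← Finset.sum_filter, Finset.sum_const, smul_eq_mul, mul_comm]
  have h3 : A * ((q - 1) * ∑ t ∈ S.filter (fun t => delta t = δ0), gw q t) ≤
      A * ∑ t ∈ S, gw q t ^ 2 := by
    calc A * ((q - 1) * ∑ t ∈ S.filter (fun t => delta t = δ0), gw q t)
        = (q - 1) * (A * ∑ t ∈ S.filter (fun t => delta t = δ0), gw q t) := by ring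
      _ = ∑ t ∈ S, gw q t * ((q - 1) *
            (Finset.univ.filter (fun a : Fin n → Fˣ => delta (act a t) = δ0)).card) := by
          rw [h2, Finset.mul_sum]
          apply Finset.sum_congr rfl
          intro t _
          ring
      _ ≤ ∑ t ∈ S, gw q t * (A * gw q t) := by
          apply Finset.sum_le_sum
          intro t ht
          have := card_act_delta_le (hS t ht) δ0
          exact Nat.mul_le_mul_left _ this
      _ = A * ∑ t ∈ S, gw q t ^ 2 := by
          rw [Finset.mul_sum]
          apply Finset.sum_congr rfl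
          intro t _
          ring
  exact Nat.le_of_mul_le_mul_left h3 hApos

/-- The sum of the squares of the weights over a set of types. -/
theorem sum_gw_sq_le_sub (q : ℕ) (hq : 2 ≤ q) {n : ℕ} (hn : 1 ≤ n)
    (S : Finset (Fin n → F[X])) (hS : ∀ t ∈ S, t ∈ Tup F n n) :
    ∑ t ∈ S, gw q t ^ 2 ≤
      S.card + ∑ e ∈ Dset n q, (e ^ 2 - 1) * (S.filter (fun t => gw q t = e)).card := by
  classical
  have h1 : ∀ t ∈ S, gw q t ^ 2 = 1 + ∑ e ∈ Dset n q, if gw q t = e then (e ^ 2 - 1) else 0 := by
    intro t ht
    rw [Finset.sum_ite_eq]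
    rcases gw_eq_one_or_mem q hq hn (hS t ht) with h | h
    · have : (1 : ℕ) ∉ Dset n q := by
        rw [mem_Dset]
        omega
      rw [h, if_neg this]
      norm_num
    · rw [if_pos h]
      have : 1 ≤ gw q t ^ 2 := Nat.one_le_pow _ _ (by
        have := (mem_Dset.mp h).1.1
        omega)
      omega
  rw [Finset.sum_congr rfl h1, Finset.sum_add_distrib, Finset.sum_const, smul_eq_mul, mul_one,
    Finset.sum_comm]
  apply Nat.add_le_add_left
  apply le_of_eq
  apply Finset.sum_congr rfl
  intro e _
  rw [← Finset.sum_filter, Finset.sum_const, smul_eq_mul, mul_comm]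

theorem InvTup_finite [Finite F] (lam : F) (m : ℕ) : (InvTup lam m).Finite := by
  have : Fintype F := Fintype.ofFinite F
  exact (Tup_bound (F := F) m m).1.subset (fun t ht => ht.1)

/-- Twist-invariant types of weight `e`. -/
theorem card_inv_gw_eq_le [Finite F] (q : ℕ) (lam : F) {n e : ℕ} (he : 1 ≤ e) (hen : e ∣ n)
    (S : Finset (Fin n → F[X])) (hS : ∀ t ∈ S, t ∈ InvTup lam n) :
    (S.filter (fun t => gw q t = e)).card ≤ (InvTup lam (n / e)).ncard := by
  classical
  rw [← Set.ncard_coe_finset]
  apply Set.ncard_le_ncard_of_injOn (compress e he) _ _ (InvTup_finite lam (n / e))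
  · intro t ht
    rw [Finset.mem_coe, Finset.mem_filter] at ht
    refine ⟨?_, fun j' => (hS t ht.1).2 _⟩
    apply compress_mem_Tup he hen (hS t ht.1).1
    intro j hj
    rw [← ht.2]
    exact gw_dvd_block q t hj
  · intro t ht u hu h
    rw [Finset.mem_coe, Finset.mem_filter] at ht hu
    apply compress_injOn he _ _ h
    · intro j hj
      rw [← ht.2]
      exact gw_dvd_block q t hj
    · intro j hj
      rw [← hu.2]
      exact gw_dvd_block q u hj

/-- The set of twist-invariant types is closed under `act`. -/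
theorem act_mem_InvTup (lam : Fˣ) {n : ℕ} (a : Fin n → Fˣ) {t : Fin n → F[X]}
    (ht : t ∈ InvTup (lam : F) n) : act a t ∈ InvTup (lam : F) n := by
  refine ⟨act_mem_Tup a ht.1, fun j => ?_⟩
  by_cases h : (t j).natDegree = 0
  · rw [act_of_natDegree_eq_zero _ _ _ h]
    exact ht.2 j
  · rw [act_of_natDegree_ne_zero _ _ _ h]
    have hinv := ht.2 j
    have hdvd := (dvd_of_scaleRoots_eq lam (t j) (ht.1.1 j).2 hinv).1
    have hpow : (lam : F) ^ (t j).natDegree = 1 := by
      rw [← Units.val_pow_eq_pow_val, orderOf_dvd_iff_pow_eq_one.mp hdvd, Units.val_one]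
    ext i
    rw [coeff_scaleRoots, natDegree_add_C]
    rcases Nat.eq_zero_or_pos i with hi | hi
    · subst hi
      rw [Nat.sub_zero, hpow, mul_one]
    · have h1 := congrArg (fun f => f.coeff i) hinv
      simp only [coeff_scaleRoots] at h1
      rw [coeff_add, coeff_C, if_neg (by omega), add_zero, h1]

end Cfsg.Agent.SLk
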