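import Cfsg.Agent.Lib.SLk.Main
import Cfsg.Agent.Lib.SLk.Fibre
import Cfsg.Agent.Lib.SLk.Sub
import Cfsg.Agent.Lib.SLk.PSLNum
import Cfsg.Agent.Lib.SLk.Center
import Cfsg.Agent.Lib.SLk.CentralQuot

/-!
# S2480: assembly of the bounds for `k(PSL_n(q))`, modulo the twist-invariance of fixed classes
-/

set_option autoImplicit false

universe u

namespace Cfsg.Agent.SLk

open Polynomial Cfsg.Agent.S2478L

variable {F : Type u} [Field F]

/-- Counting classes of `SL_n` whose types lie in a set `S`. -/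
theorem card_classes_le_sum [Fintype F] [DecidableEq F] {n : ℕ}
    (rep : ConjClasses (Matrix.SpecialLinearGroup (Fin n) F) → Matrix.SpecialLinearGroup (Fin n) F)
    (hrep : ∀ c, ConjClasses.mk (rep c) = c) (S : Finset (Fin n → F[X]))
    (P : ConjClasses (Matrix.SpecialLinearGroup (Fin n) F) → Prop)
    (hP : ∀ c, P c → typeSL (rep c) ∈ S) :
    Nat.card {c // P c} ≤
      ∑ t ∈ S.filter (fun t => delta t = (-1) ^ n), gw (Fintype.card F) t := by
  classical
  have : Fintype (ConjClasses (Matrix.SpecialLinearGroup (Fin n) F)) := Fintype.ofFinite _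
  have htyp : ∀ c ∈ Finset.univ.filter P,
      typeSL (rep c) ∈ S.filter (fun t => delta t = (-1) ^ n) := by
    intro c hc
    rw [Finset.mem_filter] at hc ⊢
    refine ⟨hP c hc.2, ?_⟩
    have h1 := det_eq_delta (Matrix.SpecialLinearGroup.toGL (rep c))
    have h2 : ((Matrix.SpecialLinearGroup.toGL (rep c) : GL (Fin n) F) :
        Matrix (Fin n) (Fin n) F).det = 1 := (rep c).2
    rw [h2] at h1
    have h3 : ((-1 : F) ^ n) * (-1) ^ n = 1 := by
      rw [← mul_pow]; simp
    have h4 : delta (typeSL (rep c)) = (-1) ^ n * ((-1) ^ n * delta (typeSL (rep c))) := by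
      rw [← mul_assoc, h3, one_mul]
    rw [h4]
    unfold typeSL
    rw [← h1, mul_one]
  rw [Nat.card_eq_fintype_card, Fintype.card_subtype,
    Finset.card_eq_sum_card_fiberwise (f := fun c => typeSL (rep c))
      (t := S.filter (fun t => delta t = (-1) ^ n)) htyp]
  apply Finset.sum_le_sum
  intro t _
  have := card_fibre_le t rep hrep
  rw [Nat.card_eq_fintype_card, Fintype.card_subtype] at this
  refine le_trans (Finset.card_le_card ?_) this
  intro c hc
  rw [Finset.mem_filter] at hc ⊢
  exact ⟨Finset.mem_univ _, hc.2⟩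

/-- The basic inequality for a set of classes with types in an `act`-closed set `S`. -/
theorem classes_bound [Fintype F] [DecidableEq F] {n : ℕ} (hn : 1 ≤ n)
    (rep : ConjClasses (Matrix.SpecialLinearGroup (Fin n) F) → Matrix.SpecialLinearGroup (Fin n) F)
    (hrep : ∀ c, ConjClasses.mk (rep c) = c) (S : Finset (Fin n → F[X]))
    (hS : ∀ t ∈ S, t ∈ Tup F n n) (hact : ∀ (a : Fin n → Fˣ) t, t ∈ S → act a t ∈ S)
    (P : ConjClasses (Matrix.SpecialLinearGroup (Fin n) F) → Prop)
    (hP : ∀ c, P c → typeSL (rep c) ∈ S) :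
    (Fintype.card F - 1) * Nat.card {c // P c} ≤
      S.card + ∑ e ∈ Dset n (Fintype.card F),
        (e ^ 2 - 1) * (S.filter (fun t => gw (Fintype.card F) t = e)).card := by
  have hq : 2 ≤ Fintype.card F := Fintype.one_lt_card
  have h1 := card_classes_le_sum rep hrep S P hP
  have h2 := uniformity_sub S hS hact ((-1) ^ n)
  have h3 := sum_gw_sq_le_sub (F := F) (Fintype.card F) hq hn S hS
  exact le_trans (Nat.mul_le_mul_left _ h1) (le_trans h2 h3)

/-- The class number of `SL_n`, divided form. -/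
theorem SL_class_le_geo [Fintype F] (n : ℕ) (hn : 1 ≤ n) :
    Nat.card (ConjClasses (Matrix.SpecialLinearGroup (Fin n) F)) ≤
      geo (Fintype.card F) n + ∑ e ∈ Dset n (Fintype.card F),
        (e ^ 2 - 1) * geo (Fintype.card F) (n / e) := by
  classical
  have hq : 2 ≤ Fintype.card F := Fintype.one_lt_card
  have hfinT : (Tup F n n).Finite := (Tup_bound (F := F) n n).1
  set Tf : Finset (Fin n → F[X]) := hfinT.toFinset with hTfdef
  have hTf : ∀ t, t ∈ Tf ↔ t ∈ Tup F n n := fun t => Set.Finite.mem_toFinset hfinT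
  choose rep hrep using fun c : ConjClasses (Matrix.SpecialLinearGroup (Fin n) F) =>
    ConjClasses.exists_rep c
  have h1 := classes_bound hn rep hrep Tf (fun t ht => (hTf t).mp ht)
    (fun a t ht => (hTf _).mpr (act_mem_Tup a ((hTf t).mp ht))) (fun _ => True)
    (fun c _ => (hTf _).mpr (inv_mem_Tup _))
  have h2 : Nat.card {c : ConjClasses (Matrix.SpecialLinearGroup (Fin n) F) // True} =
      Nat.card (ConjClasses (Matrix.SpecialLinearGroup (Fin n) F)) :=
    Nat.card_congr (Equiv.subtypeUnivEquiv (fun _ => trivial))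
  rw [h2] at h1
  have hcard : Tf.card = (Tup F n n).ncard := by
    rw [hTfdef, Set.ncard_eq_toFinset_card _ hfinT]
  have h3 : (Fintype.card F - 1) * Nat.card (ConjClasses (Matrix.SpecialLinearGroup (Fin n) F)) ≤
      (Tup F n n).ncard + ∑ e ∈ Dset n (Fintype.card F),
        (e ^ 2 - 1) * (Tup F (n / e) (n / e)).ncard := by
    rw [← hcard]
    refine le_trans h1 (Nat.add_le_add_left (Finset.sum_le_sum ?_) _)
    intro e he
    have he' := mem_Dset.mp he
    exact Nat.mul_le_mul_left _ (card_gw_eq_le _ (by omega) he'.2.1 Tf hTf)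
  apply k_le_of (Fintype.card F) n _ hq (Tup F n n).ncard (geo (Fintype.card F) n)
    (fun m => (Tup F m m).ncard) _ (fun m hm => Tup_ncard_succ_le m hm) h3
  have h4 := Tup_ncard_succ_le (F := F) n hn
  obtain ⟨r, hr⟩ : ∃ r, Fintype.card F = r + 1 := ⟨Fintype.card F - 1, by omega⟩
  rw [hr] at h4 ⊢
  have := pred_mul_geo r n
  simp only [Nat.add_sub_cancel]
  omega

/-- The number of classes fixed by a non-trivial central element. -/
theorem fixed_class_le [Fintype F] (n : ℕ) (hn : 1 ≤ n)
    (rep : ConjClasses (Matrix.SpecialLinearGroup (Fin n) F) → Matrix.SpecialLinearGroup (Fin n) F)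
    (hrep : ∀ c, ConjClasses.mk (rep c) = c) (mu : Fˣ) (hmu : mu ≠ 1)
    (P : ConjClasses (Matrix.SpecialLinearGroup (Fin n) F) → Prop)
    (hP : ∀ c, P c → typeSL (rep c) ∈ InvTup (mu : F) n) :
    Nat.card {c // P c} ≤ geo (Fintype.card F) (n / 2) +
      ∑ e ∈ Dset n (Fintype.card F), (e ^ 2 - 1) * geo (Fintype.card F) (n / e / 2) := by
  classical
  have hq : 2 ≤ Fintype.card F := Fintype.one_lt_card
  have hfin : (InvTup (mu : F) n).Finite := InvTup_finite _ _
  set S : Finset (Fin n → F[X]) := hfin.toFinset with hSdef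
  have hS : ∀ t, t ∈ S ↔ t ∈ InvTup (mu : F) n := fun t => Set.Finite.mem_toFinset hfin
  have h1 := classes_bound hn rep hrep S (fun t ht => ((hS t).mp ht).1)
    (fun a t ht => (hS _).mpr (act_mem_InvTup mu a ((hS t).mp ht))) P
    (fun c hc => (hS _).mpr (hP c hc))
  have hcard : S.card = (InvTup (mu : F) n).ncard := by
    rw [hSdef, Set.ncard_eq_toFinset_card _ hfin]
  have h3 : (Fintype.card F - 1) * Nat.card {c // P c} ≤
      (InvTup (mu : F) n).ncard + ∑ e ∈ Dset n (Fintype.card F),
        (e ^ 2 - 1) * (InvTup (mu : F) (n / e)).ncard := by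
    rw [← hcard]
    refine le_trans h1 (Nat.add_le_add_left (Finset.sum_le_sum ?_) _)
    intro e he
    have he' := mem_Dset.mp he
    exact Nat.mul_le_mul_left _
      (card_inv_gw_eq_le _ (mu : F) (by omega) he'.2.1 S (fun t ht => (hS t).mp ht))
  exact k_le_of_half (Fintype.card F) n _ hq (fun m => (InvTup (mu : F) m).ncard)
    (fun m hm => InvTup_ncard_succ_le mu hmu m hm) hn h3

end Cfsg.Agent.SLk
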