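import Cfsg.Agent.Lib.SLk.Defs

/-!
# S2480: kernel dimensions of polynomials in a matrix, and twist-invariance of types
-/

set_option autoImplicit false

universe u

namespace Cfsg.Agent.SLk

open Polynomial Cfsg.Agent.S2478L

variable {F : Type u} [Field F]

/-- The dimension of the kernel of `h(g)`. -/
noncomputable def Rk {n : ℕ} (g : GL (Fin n) F) (h : F[X]) : ℕ :=
  Module.finrank F (LinearMap.ker (Polynomial.aeval (Matrix.toLin' (g : Matrix (Fin n) (Fin n) F)) h))

/-- Conjugation invariance. -/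
theorem Rk_conj {n : ℕ} {g g' : GL (Fin n) F} (hc : IsConj g g') (h : F[X]) :
    Rk g h = Rk g' h := by
  rw [isConj_iff] at hc
  obtain ⟨c, rfl⟩ := hc
  set C : (Fin n → F) ≃ₗ[F] (Fin n → F) := Matrix.toLin'OfInv
    (M := ((c⁻¹ : GL (Fin n) F) : Matrix (Fin n) (Fin n) F))
    (M' := (c : Matrix (Fin n) (Fin n) F))
    (by rw [← Units.val_mul, inv_mul_cancel, Units.val_one])
    (by rw [← Units.val_mul, mul_inv_cancel, Units.val_one]) with hC
  have h1 : Matrix.toLin' ((c * g * c⁻¹ : GL (Fin n) F) : Matrix (Fin n) (Fin n) F) =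
      C.conjAlgEquiv F (Matrix.toLin' (g : Matrix (Fin n) (Fin n) F)) := by
    rw [LinearEquiv.conjAlgEquiv_apply]
    apply LinearMap.ext
    intro x
    simp only [Units.val_mul, Matrix.toLin'_mul, LinearMap.coe_comp, Function.comp_apply,
      LinearEquiv.coe_coe]
    rfl
  unfold Rk
  rw [h1, Polynomial.aeval_algHom_apply (C.conjAlgEquiv F)
    (Matrix.toLin' (g : Matrix (Fin n) (Fin n) F)) h, LinearEquiv.conjAlgEquiv_apply]
  set B := Polynomial.aeval (Matrix.toLin' (g : Matrix (Fin n) (Fin n) F)) h with hB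
  have h2 : LinearMap.ker ((C : (Fin n → F) →ₗ[F] (Fin n → F)) ∘ₗ B ∘ₗ
      (C.symm : (Fin n → F) →ₗ[F] (Fin n → F))) = (LinearMap.ker B).map
        (C : (Fin n → F) →ₗ[F] (Fin n → F)) := by
    ext x
    simp only [LinearMap.mem_ker, LinearMap.coe_comp, LinearEquiv.coe_coe, Function.comp_apply,
      Submodule.mem_map, EmbeddingLike.map_eq_zero_iff]
    constructor
    · intro hx
      exact ⟨C.symm x, hx, C.apply_symm_apply x⟩
    · rintro ⟨y, hy, rfl⟩
      rw [C.symm_apply_apply]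
      exact hy
  rw [h2]
  exact (LinearEquiv.finrank_map_eq C _).symm

/-- Scaling. -/
theorem Rk_scalar {n : ℕ} (g s : GL (Fin n) F) (lam : Fˣ)
    (hs : (s : Matrix (Fin n) (Fin n) F) = (lam : F) • (1 : Matrix (Fin n) (Fin n) F)) (h : F[X]) :
    Rk (s * g) h = Rk g (scaleRoots h ((lam⁻¹ : Fˣ) : F)) := by
  unfold Rk
  set A := Matrix.toLin' (g : Matrix (Fin n) (Fin n) F) with hA
  have h1 : Matrix.toLin' ((s * g : GL (Fin n) F) : Matrix (Fin n) (Fin n) F) = (lam : F) • A := by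
    rw [Units.val_mul, hs, Matrix.smul_mul, Matrix.one_mul, map_smul]
  rw [h1]
  -- `aeval A (scaleRoots h λ⁻¹) = λ^(-deg) • aeval (λ • A) h`
  have h2 := scaleRoots_eval₂_mul_of_commute (p := h)
    (algebraMap F (Module.End F (Fin n → F))) ((lam : F) • A) ((lam⁻¹ : Fˣ) : F)
    (Algebra.commutes _ _) (fun a b => (Algebra.commutes a (algebraMap F _ b)))
  have h3 : algebraMap F (Module.End F (Fin n → F)) ((lam⁻¹ : Fˣ) : F) * ((lam : F) • A) = A := by
    rw [← Algebra.smul_def, smul_smul, Units.inv_mul, one_smul]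
  rw [h3] at h2
  have h4 : Polynomial.aeval A (scaleRoots h ((lam⁻¹ : Fˣ) : F)) =
      (((lam⁻¹ : Fˣ) : F) ^ h.natDegree) • Polynomial.aeval ((lam : F) • A) h := by
    rw [Polynomial.aeval_def, h2, ← map_pow, ← Algebra.smul_def, Polynomial.aeval_def]
  rw [h4]
  have hu : ((lam⁻¹ : Fˣ) : F) ^ h.natDegree ≠ 0 := pow_ne_zero _ (Units.ne_zero _)
  have h5 : LinearMap.ker ((((lam⁻¹ : Fˣ) : F) ^ h.natDegree) •
      Polynomial.aeval ((lam : F) • A) h) = LinearMap.ker (Polynomial.aeval ((lam : F) • A) h) := by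
    ext x
    simp only [LinearMap.mem_ker, LinearMap.smul_apply, smul_eq_zero, hu, false_or]
  rw [h5]

end Cfsg.Agent.SLk
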