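import Cfsg.Agent.Lib.SLk.Rk

/-!
# S2480: twist-invariance of the type of a class fixed by a central scalar, from the multiplicity
formula
-/

set_option autoImplicit false

universe u

namespace Cfsg.Agent.SLk

open Polynomial Cfsg.Agent.S2478L

variable {F : Type u} [Field F]

theorem scaleRoots_scaleRoots_inv (p : F[X]) (lam : Fˣ) :
    scaleRoots (scaleRoots p (lam : F)) ((lam⁻¹ : Fˣ) : F) = p := by
  rw [← scaleRoots_mul, Units.mul_inv, scaleRoots_one]

theorem scaleRoots_inv_scaleRoots (p : F[X]) (lam : Fˣ) :
    scaleRoots (scaleRoots p ((lam⁻¹ : Fˣ) : F)) (lam : F) = p := by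
  rw [← scaleRoots_mul, Units.inv_mul, scaleRoots_one]

theorem scaleRoots_injective (lam : Fˣ) :
    Function.Injective (fun p : F[X] => scaleRoots p (lam : F)) := by
  intro p p' h
  have := congrArg (fun r => scaleRoots r ((lam⁻¹ : Fˣ) : F)) h
  simpa only [scaleRoots_scaleRoots_inv] using this

theorem irreducible_scaleRoots {p : F[X]} (hp : Irreducible p) (lam : Fˣ) :
    Irreducible (scaleRoots p (lam : F)) := by
  have hunit : ∀ r : F[X], IsUnit r ↔ IsUnit (scaleRoots r (lam : F)) := by
    intro r
    rw [Polynomial.isUnit_iff_degree_eq_zero, Polynomial.isUnit_iff_degree_eq_zero]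
    by_cases hr : r = 0
    · subst hr
      simp
    · have hr' : scaleRoots r (lam : F) ≠ 0 := by
        intro h
        apply hr
        have := congrArg (fun r => scaleRoots r ((lam⁻¹ : Fˣ) : F)) h
        simpa only [scaleRoots_scaleRoots_inv, zero_scaleRoots] using this
      rw [degree_eq_natDegree hr, degree_eq_natDegree hr', natDegree_scaleRoots]
  constructor
  · rw [← hunit]
    exact hp.not_isUnit
  · intro a b hab
    have h1 : p = scaleRoots a ((lam⁻¹ : Fˣ) : F) * scaleRoots b ((lam⁻¹ : Fˣ) : F) := by
      rw [← mul_scaleRoots_of_noZeroDivisors, ← hab, scaleRoots_scaleRoots_inv]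
    rcases hp.isUnit_or_isUnit h1 with h | h
    · left
      have := (hunit _).mp h
      rwa [scaleRoots_inv_scaleRoots] at this
    · right
      have := (hunit _).mp h
      rwa [scaleRoots_inv_scaleRoots] at this

theorem scaleRoots_multiset_prod (S : Multiset F[X]) (r : F) :
    scaleRoots S.prod r = (S.map (fun p => scaleRoots p r)).prod := by
  induction S using Multiset.induction_on with
  | empty => simp
  | cons a S ih =>
    rw [Multiset.prod_cons, mul_scaleRoots_of_noZeroDivisors, ih, Multiset.map_cons,
      Multiset.prod_cons]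

/-- The twist-invariance of the type, from the multiplicity formula `(M)`. -/
theorem scaleRoots_inv_of_M {n : ℕ}
    (hM : ∀ (g : GL (Fin n) F) (ι : Type u) [Fintype ι] (d : ι → F[X] × ℕ), IsData d n →
      Nonempty (Mod g ≃ₗ[F[X]] ∀ i, Q (d i)) → ∀ (p : F[X]), p.Monic → Irreducible p →
      ∀ e, 1 ≤ e → p.natDegree * Nat.card {i // d i = (p, e)} + Rk g (p ^ (e - 1)) +
        Rk g (p ^ (e + 1)) = 2 * Rk g (p ^ e))
    (g s : GL (Fin n) F) (lam : Fˣ)
    (hs : (s : Matrix (Fin n) (Fin n) F) = (lam : F) • (1 : Matrix (Fin n) (Fin n) F))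
    (hc : IsConj (s * g) g) (j : Fin n) : scaleRoots (inv g j) (lam : F) = inv g j := by
  classical
  let _ := (exists_isData g).choose_spec.choose
  obtain ⟨hd, hE⟩ := (exists_isData g).choose_spec.choose_spec.choose_spec
  set d := (exists_isData g).choose_spec.choose_spec.choose with hddef
  -- the kernel dimensions are twist-invariant
  have hRk : ∀ h : F[X], Rk g h = Rk g (scaleRoots h ((lam⁻¹ : Fˣ) : F)) := by
    intro h
    rw [← Rk_scalar g s lam hs h, Rk_conj hc]
  -- the multiplicities are twist-invariant
  have hmult : ∀ (p : F[X]), p.Monic → Irreducible p → ∀ e, 1 ≤ e →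
      Nat.card {i // d i = (p, e)} = Nat.card {i // d i = (scaleRoots p ((lam⁻¹ : Fˣ) : F), e)} := by
    intro p hpm hpi e he
    have h1 := hM g _ d hd hE p hpm hpi e he
    have hpm' : (scaleRoots p ((lam⁻¹ : Fˣ) : F)).Monic := (monic_scaleRoots_iff _).mpr hpm
    have h2 := hM g _ d hd hE _ hpm' (irreducible_scaleRoots hpi lam⁻¹) e he
    rw [natDegree_scaleRoots, ← pow_scaleRoots_of_isReduced, ← pow_scaleRoots_of_isReduced,
      ← pow_scaleRoots_of_isReduced, ← hRk, ← hRk, ← hRk] at h2
    have hdeg : 0 < p.natDegree := hpi.natDegree_pos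
    have h3 : p.natDegree * Nat.card {i // d i = (p, e)} =
        p.natDegree * Nat.card {i // d i = (scaleRoots p ((lam⁻¹ : Fˣ) : F), e)} := by omega
    exact Nat.eq_of_mul_eq_mul_left hdeg h3
  -- all multiplicities
  have hmult' : ∀ (p : F[X]) e, 1 ≤ e →
      Nat.card {i // d i = (p, e)} = Nat.card {i // d i = (scaleRoots p ((lam⁻¹ : Fˣ) : F), e)} := by
    intro p e he
    by_cases hp : p.Monic ∧ Irreducible p
    · exact hmult p hp.1 hp.2 e he
    · have h1 : IsEmpty {i // d i = (p, e)} := by
        constructor
        rintro ⟨i, hi⟩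
        apply hp
        have h2 := hd.monic i
        have h3 := hd.irr i
        rw [hi] at h2 h3
        exact ⟨h2, h3⟩
      have h2 : IsEmpty {i // d i = (scaleRoots p ((lam⁻¹ : Fˣ) : F), e)} := by
        constructor
        rintro ⟨i, hi⟩
        apply hp
        have h2 := hd.monic i
        have h3 := hd.irr i
        rw [hi] at h2 h3
        simp only at h2 h3
        refine ⟨(monic_scaleRoots_iff _).mp h2, ?_⟩
        have := irreducible_scaleRoots h3 lam
        rwa [scaleRoots_inv_scaleRoots] at this
      rw [Nat.card_of_isEmpty, Nat.card_of_isEmpty]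
  -- the multiset of the irreducible factors with exponent `j + 1`
  set S : Multiset F[X] :=
    (Finset.univ.filter (fun i => (d i).2 = (j : ℕ) + 1)).val.map (fun i => (d i).1) with hS
  have hinv : inv g j = S.prod := by
    unfold inv eps
    rfl
  have hcount : ∀ q : F[X], Multiset.count q S = Nat.card {i // d i = (q, (j : ℕ) + 1)} := by
    intro q
    rw [hS, Multiset.count_map, ← Finset.filter_val, Finset.filter_filter, Nat.card_eq_fintype_card,
      Fintype.card_subtype]
    show (Finset.univ.filter _).card = _
    congr 1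
    ext i
    simp only [Finset.mem_filter, Finset.mem_univ, true_and]
    constructor
    · rintro ⟨h1, h2⟩
      exact Prod.ext h2.symm h1
    · intro hh
      rw [hh]
      exact ⟨rfl, rfl⟩
  have hmap : S.map (fun p => scaleRoots p (lam : F)) = S := by
    ext q
    have hq : q = scaleRoots (scaleRoots q ((lam⁻¹ : Fˣ) : F)) (lam : F) :=
      (scaleRoots_inv_scaleRoots q lam).symm
    conv_lhs => rw [hq]
    rw [Multiset.count_map_eq_count' _ _ (scaleRoots_injective lam), hcount, hcount]
    exact (hmult' q _ (by omega)).symm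
  rw [hinv, scaleRoots_multiset_prod, hmap]

end Cfsg.Agent.SLk
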