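import Cfsg.Agent.Lib.S2478.Upper

/-!
# Uniqueness of the elementary divisors (for S2480)

For an `F[X]`-module `M` (finite-dimensional over `F`) the numbers
`cInv M a = dim_F (M / a M)` are isomorphism invariants; on `Π_i F[X]/(p_i^e_i)` and `a = p^k`
they equal `Σ_{i, p_i = p} min(e_i, k) deg p`.  This determines the multiplicities
`#{i | (p_i, e_i) = (p, e)}`, hence `eps d n`, and `IsConj g h → inv g = inv h`.
-/

set_option autoImplicit false
set_option linter.style.haveILetI false

universe u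

namespace Cfsg.Agent.SLk

open Polynomial Module Cfsg.Agent.S2478L

variable {F : Type u} [Field F]


/-- The submodule `a • M`. -/
noncomputable def smulRange (M : Type*) [AddCommGroup M] [Module F[X] M] (a : F[X]) :
    Submodule F[X] M :=
  LinearMap.range (LinearMap.lsmul F[X] M a)

theorem mem_smulRange {M : Type*} [AddCommGroup M] [Module F[X] M] {a : F[X]} {x : M} :
    x ∈ smulRange M a ↔ ∃ y, a • y = x := by
  unfold smulRange
  rw [LinearMap.mem_range]
  rfl

/-- The invariant `dim_F (M / a M)`. -/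
noncomputable def cInv (M : Type*) [AddCommGroup M] [Module F[X] M] [Module F M]
    [IsScalarTower F F[X] M] (a : F[X]) : ℕ :=
  Module.finrank F (M ⧸ smulRange M a)

theorem cInv_congr {M M' : Type*} [AddCommGroup M] [Module F[X] M] [Module F M]
    [IsScalarTower F F[X] M] [AddCommGroup M'] [Module F[X] M'] [Module F M']
    [IsScalarTower F F[X] M'] (E : M ≃ₗ[F[X]] M') (a : F[X]) : cInv M a = cInv M' a := by
  have hmap : Submodule.map (E : M →ₗ[F[X]] M') (smulRange M a) = smulRange M' a := by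
    ext x
    rw [Submodule.mem_map, mem_smulRange]
    constructor
    · rintro ⟨y, hy, rfl⟩
      obtain ⟨z, rfl⟩ := mem_smulRange.mp hy
      exact ⟨E z, (map_smul E a z).symm⟩
    · rintro ⟨y, rfl⟩
      refine ⟨a • E.symm y, mem_smulRange.mpr ⟨_, rfl⟩, ?_⟩
      simp
  exact ((Submodule.Quotient.equiv (smulRange M a) (smulRange M' a) E hmap).restrictScalars
    F).finrank_eq

theorem cInv_pi {ι : Type*} [Fintype ι] (M : ι → Type*) [∀ i, AddCommGroup (M i)]
    [∀ i, Module F[X] (M i)] [∀ i, Module F (M i)] [∀ i, IsScalarTower F F[X] (M i)]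
    [∀ i, Module.Finite F (M i)] (a : F[X]) :
    cInv (∀ i, M i) a = ∑ i, cInv (M i) a := by
  classical
  have hpi : smulRange (∀ i, M i) a = Submodule.pi Set.univ (fun i => smulRange (M i) a) := by
    ext x
    rw [Submodule.mem_pi, mem_smulRange]
    constructor
    · rintro ⟨y, rfl⟩ i _
      exact mem_smulRange.mpr ⟨y i, rfl⟩
    · intro h
      have h' : ∀ i, ∃ y, a • y = x i := fun i => mem_smulRange.mp (h i (Set.mem_univ i))
      choose y hy using h'
      exact ⟨y, funext hy⟩
  have hfin : ∀ i, Module.Finite F (M i ⧸ smulRange (M i) a) := by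
    intro i
    have hs : Function.Surjective ((smulRange (M i) a).mkQ.restrictScalars F) :=
      fun y => Submodule.mkQ_surjective (smulRange (M i) a) y
    exact Module.Finite.of_surjective _ hs
  let e1 : ((∀ i, M i) ⧸ smulRange (∀ i, M i) a) ≃ₗ[F[X]] (∀ i, M i ⧸ smulRange (M i) a) :=
    (Submodule.quotEquivOfEq _ _ hpi).trans (Submodule.quotientPi (fun i => smulRange (M i) a))
  let e2 : ((∀ i, M i) ⧸ smulRange (∀ i, M i) a) ≃ₗ[F] (∀ i, M i ⧸ smulRange (M i) a) :=
    e1.restrictScalars F
  have h1 : Module.finrank F ((∀ i, M i) ⧸ smulRange (∀ i, M i) a) =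
      Module.finrank F (∀ i, M i ⧸ smulRange (M i) a) := e2.finrank_eq
  unfold cInv
  rw [h1]
  exact Module.finrank_pi_fintype F (M := fun i => M i ⧸ smulRange (M i) a)

theorem cInv_cyclic (f a : F[X]) :
    cInv (F[X] ⧸ Ideal.span {f}) a =
      Module.finrank F (F[X] ⧸ (Ideal.span {f} ⊔ Ideal.span {a})) := by
  set N := F[X] ⧸ Ideal.span {f} with hN
  let π : F[X] →ₗ[F[X]] (N ⧸ smulRange N a) :=
    (smulRange N a).mkQ ∘ₗ (Submodule.mkQ (Ideal.span {f}))
  have hsurj : Function.Surjective π := by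
    intro y
    obtain ⟨y1, rfl⟩ := Submodule.mkQ_surjective (smulRange N a) y
    obtain ⟨y2, rfl⟩ := Submodule.mkQ_surjective (Ideal.span {f}) y1
    exact ⟨y2, rfl⟩
  have hker : LinearMap.ker π = Ideal.span {f} ⊔ Ideal.span {a} := by
    ext g
    rw [LinearMap.mem_ker]
    show (smulRange N a).mkQ (Submodule.mkQ (Ideal.span {f}) g) = 0 ↔ _
    rw [Submodule.mkQ_apply, Submodule.Quotient.mk_eq_zero, mem_smulRange, Submodule.mem_sup]
    constructor
    · rintro ⟨y, hy⟩
      obtain ⟨h, rfl⟩ := Submodule.mkQ_surjective (Ideal.span {f}) y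
      rw [← map_smul, Submodule.mkQ_apply, Submodule.mkQ_apply, Submodule.Quotient.eq] at hy
      refine ⟨g - a • h, ?_, a • h, ?_, by ring⟩
      · have := (Ideal.span {f}).neg_mem hy
        rwa [neg_sub] at this
      · rw [smul_eq_mul, mul_comm]
        exact Ideal.mem_span_singleton'.mpr ⟨h, rfl⟩
    · rintro ⟨y, hy, z, hz, rfl⟩
      obtain ⟨c, rfl⟩ := Ideal.mem_span_singleton'.mp hz
      refine ⟨Submodule.mkQ (Ideal.span {f}) c, ?_⟩
      rw [← map_smul, Submodule.mkQ_apply, Submodule.mkQ_apply, Submodule.Quotient.eq]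
      rw [smul_eq_mul, mul_comm a c, sub_add_cancel_right]
      exact (Ideal.span {f}).neg_mem hy
  let e1 : (F[X] ⧸ (Ideal.span {f} ⊔ Ideal.span {a})) ≃ₗ[F[X]] (N ⧸ smulRange N a) :=
    (Submodule.quotEquivOfEq _ _ hker.symm).trans (LinearMap.quotKerEquivOfSurjective π hsurj)
  exact (e1.restrictScalars F).finrank_eq.symm

theorem cInv_Q_same (p : F[X]) (e k : ℕ) :
    cInv (Q (p, e)) (p ^ k) = min e k * p.natDegree := by
  show cInv (F[X] ⧸ Ideal.span {p ^ e}) (p ^ k) = _
  rw [cInv_cyclic]
  have h1 : Ideal.span {p ^ e} ⊔ Ideal.span {p ^ k} = Ideal.span {p ^ (min e k)} := by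
    apply le_antisymm
    · apply sup_le
      · rw [Ideal.span_singleton_le_span_singleton]
        exact pow_dvd_pow p (min_le_left e k)
      · rw [Ideal.span_singleton_le_span_singleton]
        exact pow_dvd_pow p (min_le_right e k)
    · rcases le_total e k with h | h
      · rw [min_eq_left h]
        exact le_sup_left
      · rw [min_eq_right h]
        exact le_sup_right
  rw [h1, finrank_quotient_span_eq_natDegree, natDegree_pow]

theorem cInv_Q_coprime {p q : F[X]} (h : IsCoprime q p) (e k : ℕ) :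
    cInv (Q (q, e)) (p ^ k) = 0 := by
  show cInv (F[X] ⧸ Ideal.span {q ^ e}) (p ^ k) = _
  rw [cInv_cyclic]
  have h1 : Ideal.span {q ^ e} ⊔ Ideal.span {p ^ k} = ⊤ := by
    rw [← Ideal.isCoprime_iff_sup_eq, Ideal.isCoprime_span_singleton_iff]
    exact h.pow
  rw [h1]
  haveI : Subsingleton (F[X] ⧸ (⊤ : Ideal F[X])) := Ideal.Quotient.subsingleton_iff.mpr rfl
  exact Module.finrank_zero_of_subsingleton

theorem finite_Q {x : F[X] × ℕ} (hx : x.1 ≠ 0) : Module.Finite F (Q x) :=
  (AdjoinRoot.powerBasis (pow_ne_zero x.2 hx)).finite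

theorem isCoprime_of_ne {p q : F[X]} (hp : Irreducible p) (hpm : p.Monic) (hq : Irreducible q)
    (hqm : q.Monic) (hne : q ≠ p) : IsCoprime q p := by
  rw [Irreducible.coprime_iff_not_dvd hq]
  intro hdvd
  exact hne (Polynomial.eq_of_monic_of_associated hqm hpm
    ((hq.dvd_irreducible_iff_associated hp).mp hdvd))

open Classical in
theorem cInv_data {ι : Type u} [Fintype ι] {d : ι → F[X] × ℕ} {n : ℕ} (h : IsData d n)
    {p : F[X]} (hp : Irreducible p) (hpm : p.Monic) (k : ℕ) :
    cInv (∀ i, Q (d i)) (p ^ k) =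
      ∑ i, if (d i).1 = p then min (d i).2 k * p.natDegree else 0 := by
  classical
  haveI : ∀ i, Module.Finite F (Q (d i)) := fun i => finite_Q (h.irr i).ne_zero
  rw [cInv_pi]
  apply Finset.sum_congr rfl
  intro i _
  by_cases hi : (d i).1 = p
  · rw [if_pos hi]
    have : d i = (p, (d i).2) := Prod.ext hi rfl
    rw [this]
    exact cInv_Q_same p _ k
  · rw [if_neg hi]
    have : d i = ((d i).1, (d i).2) := rfl
    rw [this]
    exact cInv_Q_coprime (isCoprime_of_ne hp hpm (h.irr i) (h.monic i) hi) _ k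

open Classical in
theorem cInv_data_succ {ι : Type u} [Fintype ι] {d : ι → F[X] × ℕ} {n : ℕ}
    (h : IsData d n) {p : F[X]} (hp : Irreducible p) (hpm : p.Monic) (k : ℕ) :
    cInv (∀ i, Q (d i)) (p ^ (k + 1)) = cInv (∀ i, Q (d i)) (p ^ k) +
      p.natDegree * (Finset.univ.filter (fun i => (d i).1 = p ∧ k + 1 ≤ (d i).2)).card := by
  rw [cInv_data h hp hpm, cInv_data h hp hpm, Finset.card_filter, Finset.mul_sum,
    ← Finset.sum_add_distrib]
  apply Finset.sum_congr rfl
  intro i _
  by_cases hi : (d i).1 = p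
  · by_cases hk : k + 1 ≤ (d i).2
    · rw [if_pos hi, if_pos hi, if_pos ⟨hi, hk⟩, min_eq_right hk, min_eq_right (by omega)]
      ring
    · rw [if_pos hi, if_pos hi, if_neg (fun hh => hk hh.2), min_eq_left (by omega),
        min_eq_left (by omega)]
      ring
  · rw [if_neg hi, if_neg hi, if_neg (fun hh => hi hh.1)]
    simp

open Classical in
theorem card_ge_eq {ι ι' : Type u} [Fintype ι] [Fintype ι'] {d : ι → F[X] × ℕ}
    {d' : ι' → F[X] × ℕ} {n : ℕ} (h : IsData d n) (h' : IsData d' n)
    (E : (∀ i, Q (d i)) ≃ₗ[F[X]] (∀ i', Q (d' i'))) {p : F[X]} (hp : Irreducible p)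
    (hpm : p.Monic) (k : ℕ) :
    (Finset.univ.filter (fun i => (d i).1 = p ∧ k + 1 ≤ (d i).2)).card =
      (Finset.univ.filter (fun i' => (d' i').1 = p ∧ k + 1 ≤ (d' i').2)).card := by
  have h1 := cInv_data_succ h hp hpm k
  have h2 := cInv_data_succ h' hp hpm k
  rw [cInv_congr E (p ^ (k + 1)), cInv_congr E (p ^ k), h2] at h1
  have hdeg : 0 < p.natDegree :=
    Polynomial.natDegree_pos_iff_degree_pos.mpr (Polynomial.degree_pos_of_irreducible hp)
  have h3 := Nat.add_left_cancel h1
  exact (Nat.eq_of_mul_eq_mul_left hdeg h3).symm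

open Classical in
theorem card_fiber_eq_of_equiv {ι ι' : Type u} [Fintype ι] [Fintype ι'] {d : ι → F[X] × ℕ}
    {d' : ι' → F[X] × ℕ} {n : ℕ} (h : IsData d n) (h' : IsData d' n)
    (E : (∀ i, Q (d i)) ≃ₗ[F[X]] (∀ i', Q (d' i'))) (x : F[X] × ℕ) :
    Nat.card {i // d i = x} = Nat.card {i' // d' i' = x} := by
  obtain ⟨P, e⟩ := x
  by_cases hx : Irreducible P ∧ P.Monic ∧ e ≠ 0
  · obtain ⟨hp, hpm, he⟩ := hx
    obtain ⟨k, rfl⟩ : ∃ k, e = k + 1 := ⟨e - 1, by omega⟩
    have key : ∀ {κ : Type u} [Fintype κ] (c : κ → F[X] × ℕ),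
        Nat.card {i // c i = (P, k + 1)} +
          (Finset.univ.filter (fun i => (c i).1 = P ∧ k + 1 + 1 ≤ (c i).2)).card =
        (Finset.univ.filter (fun i => (c i).1 = P ∧ k + 1 ≤ (c i).2)).card := by
      intro κ _ c
      rw [Nat.card_eq_fintype_card, Fintype.card_subtype, ← Finset.card_union_of_disjoint]
      · congr 1
        ext i
        simp only [Finset.mem_union, Finset.mem_filter, Finset.mem_univ, true_and]
        constructor
        · rintro (hh | ⟨h1, h2⟩)
          · rw [hh]; exact ⟨rfl, le_rfl⟩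
          · exact ⟨h1, by omega⟩
        · rintro ⟨h1, h2⟩
          by_cases h3 : (c i).2 = k + 1
          · left; exact Prod.ext h1 h3
          · right; exact ⟨h1, by omega⟩
      · rw [Finset.disjoint_filter]
        intro i _ hh h2
        rw [hh] at h2
        simp at h2
    have e1 := key d
    have e2 := key d'
    rw [card_ge_eq h h' E hp hpm k, card_ge_eq h h' E hp hpm (k + 1)] at e1
    omega
  · have hemp : ∀ {κ : Type u} [Fintype κ] (c : κ → F[X] × ℕ), IsData c n →
        Nat.card {i // c i = (P, e)} = 0 := by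
      intro κ _ c hc
      have : IsEmpty {i // c i = (P, e)} := by
        constructor
        rintro ⟨i, hi⟩
        apply hx
        have h1 := hc.irr i
        have h2 := hc.monic i
        have h3 := hc.exp_ne i
        rw [hi] at h1 h2 h3
        exact ⟨h1, h2, h3⟩
      exact Nat.card_of_isEmpty
    rw [hemp d h, hemp d' h']

theorem eps_eq_of_equiv {ι ι' : Type u} [Fintype ι] [Fintype ι'] {d : ι → F[X] × ℕ}
    {d' : ι' → F[X] × ℕ} {n : ℕ} (h : IsData d n) (h' : IsData d' n)
    (E : (∀ i, Q (d i)) ≃ₗ[F[X]] (∀ i', Q (d' i'))) : eps d n = eps d' n := by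
  classical
  have h1 : ∀ x, Nonempty ({i // d i = x} ≃ {i' // d' i' = x}) := fun x =>
    Finite.card_eq.mp (card_fiber_eq_of_equiv h h' E x)
  set σ : ι ≃ ι' := Equiv.ofFiberEquiv fun x => (h1 x).some with hσ
  have hσd : ∀ i, d' (σ i) = d i := fun i => Equiv.ofFiberEquiv_map _ i
  funext j
  unfold eps
  apply Finset.prod_equiv σ
  · intro i
    simp only [Finset.mem_filter, Finset.mem_univ, true_and]
    rw [hσd]
  · intro i _
    rw [hσd]

/-- Conjugate matrices have isomorphic `F[X]`-modules. -/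
theorem linearEquiv_of_isConj {n : ℕ} (g h : GL (Fin n) F) (hc : IsConj g h) :
    Nonempty (Mod g ≃ₗ[F[X]] Mod h) := by
  rw [isConj_iff] at hc
  obtain ⟨c, hc⟩ := hc
  have hcg : (c : Matrix (Fin n) (Fin n) F) * (g : Matrix (Fin n) (Fin n) F) =
      (h : Matrix (Fin n) (Fin n) F) * (c : Matrix (Fin n) (Fin n) F) := by
    rw [← Units.val_mul, ← Units.val_mul, ← hc, inv_mul_cancel_right]
  set a := Matrix.mulVecLin (g : Matrix (Fin n) (Fin n) F) with ha
  set b := Matrix.mulVecLin (h : Matrix (Fin n) (Fin n) F) with hb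
  let s : (Fin n → F) ≃ₗ[F] (Fin n → F) :=
    LinearEquiv.ofLinearMap (Matrix.mulVecLin (c : Matrix (Fin n) (Fin n) F))
      (Matrix.mulVecLin ((c⁻¹ : GL (Fin n) F) : Matrix (Fin n) (Fin n) F))
      (by rw [← Matrix.mulVecLin_mul, ← Units.val_mul, mul_inv_cancel, Units.val_one,
            Matrix.mulVecLin_one])
      (by rw [← Matrix.mulVecLin_mul, ← Units.val_mul, inv_mul_cancel, Units.val_one,
            Matrix.mulVecLin_one])
  have hs : ∀ m, s (a m) = b (s m) := by
    intro m
    show (c : Matrix (Fin n) (Fin n) F).mulVec ((g : Matrix (Fin n) (Fin n) F).mulVec m) =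
      (h : Matrix (Fin n) (Fin n) F).mulVec ((c : Matrix (Fin n) (Fin n) F).mulVec m)
    rw [Matrix.mulVec_mulVec, Matrix.mulVec_mulVec, hcg]
  refine ⟨LinearEquiv.ofAEval a (s.trans (AEval'.of b)) ?_⟩
  intro m
  show AEval'.of b (s (a m)) = (X : F[X]) • AEval'.of b (s m)
  rw [AEval'.X_smul_of, hs]

theorem inv_eq_of_isConj {n : ℕ} (g h : GL (Fin n) F) (hc : IsConj g h) : inv g = inv h := by
  let _ := (exists_isData g).choose_spec.choose
  let _ := (exists_isData h).choose_spec.choose
  obtain ⟨hd, ⟨E⟩⟩ := (exists_isData g).choose_spec.choose_spec.choose_spec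
  obtain ⟨hd', ⟨E'⟩⟩ := (exists_isData h).choose_spec.choose_spec.choose_spec
  obtain ⟨T⟩ := linearEquiv_of_isConj g h hc
  exact eps_eq_of_equiv hd hd' ((E.symm.trans T).trans E')

theorem inv_eq_iff_isConj {n : ℕ} (g h : GL (Fin n) F) : inv g = inv h ↔ IsConj g h :=
  ⟨isConj_of_inv_eq g h, inv_eq_of_isConj g h⟩


/-- The kernel dimension of `h(a)` is the invariant `cInv` of the module `AEval' a`. -/
theorem finrank_ker_aeval_eq_cInv {V : Type*} [AddCommGroup V] [Module F V]
    [FiniteDimensional F V] (a : V →ₗ[F] V) (h : F[X]) :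
    Module.finrank F (LinearMap.ker (Polynomial.aeval a h)) = cInv (AEval' a) h := by
  set T : V →ₗ[F] V := Polynomial.aeval a h with hT
  have h1 := LinearMap.finrank_range_add_finrank_ker T
  have h2 := Submodule.finrank_quotient_add_finrank (LinearMap.range T)
  have h3 : Module.finrank F (LinearMap.ker T) = Module.finrank F (V ⧸ LinearMap.range T) := by
    omega
  rw [h3]
  have hmap : Submodule.map ((AEval'.of a : V ≃ₗ[F] AEval' a) : V →ₗ[F] AEval' a)
      (LinearMap.range T) = (smulRange (AEval' a) h).restrictScalars F := by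
    ext x
    rw [Submodule.mem_map, Submodule.restrictScalars_mem, mem_smulRange]
    constructor
    · rintro ⟨y, hy, rfl⟩
      obtain ⟨z, rfl⟩ := LinearMap.mem_range.mp hy
      exact ⟨AEval'.of a z, rfl⟩
    · rintro ⟨w, rfl⟩
      obtain ⟨z, rfl⟩ := (AEval'.of a).surjective w
      exact ⟨T z, LinearMap.mem_range.mpr ⟨z, rfl⟩, rfl⟩
  unfold cInv
  exact ((Submodule.Quotient.equiv (LinearMap.range T)
    ((smulRange (AEval' a) h).restrictScalars F) (AEval'.of a) hmap).trans
    (Submodule.Quotient.restrictScalarsEquiv F (smulRange (AEval' a) h))).finrank_eq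

open Classical in
/-- The kernel dimensions of `p^k(g)` in terms of the elementary divisors. -/
theorem finrank_ker_aeval_data {n : ℕ} (g : GL (Fin n) F) {ι : Type u} [Fintype ι]
    {d : ι → F[X] × ℕ} (hd : IsData d n) (E : Mod g ≃ₗ[F[X]] ∀ i, Q (d i))
    {p : F[X]} (hp : Irreducible p) (hpm : p.Monic) (k : ℕ) :
    Module.finrank F (LinearMap.ker
        (Polynomial.aeval (Matrix.toLin' (g : Matrix (Fin n) (Fin n) F)) (p ^ k))) =
      ∑ i, if (d i).1 = p then min (d i).2 k * p.natDegree else 0 := by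
  have h1 : Matrix.toLin' (g : Matrix (Fin n) (Fin n) F) =
      Matrix.mulVecLin (g : Matrix (Fin n) (Fin n) F) := Matrix.toLin'_apply' _
  rw [h1, finrank_ker_aeval_eq_cInv, ← cInv_data hd hp hpm k]
  exact cInv_congr E (p ^ k)

/-- **(M)**: the multiplicity of the elementary divisor `p^e` from the kernel dimensions. -/
theorem mult_identity {n : ℕ} (g : GL (Fin n) F) {ι : Type u} [Fintype ι]
    (d : ι → F[X] × ℕ) (hd : IsData d n) (hE : Nonempty (Mod g ≃ₗ[F[X]] ∀ i, Q (d i)))
    (p : F[X]) (hpm : p.Monic) (hp : Irreducible p) (e : ℕ) (he : 1 ≤ e) :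
    p.natDegree * Nat.card {i // d i = (p, e)} +
        Module.finrank F (LinearMap.ker
          (Polynomial.aeval (Matrix.toLin' (g : Matrix (Fin n) (Fin n) F)) (p ^ (e - 1)))) +
        Module.finrank F (LinearMap.ker
          (Polynomial.aeval (Matrix.toLin' (g : Matrix (Fin n) (Fin n) F)) (p ^ (e + 1)))) =
      2 * Module.finrank F (LinearMap.ker
          (Polynomial.aeval (Matrix.toLin' (g : Matrix (Fin n) (Fin n) F)) (p ^ e))) := by
  classical
  obtain ⟨E⟩ := hE
  rw [finrank_ker_aeval_data g hd E hp hpm, finrank_ker_aeval_data g hd E hp hpm,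
    finrank_ker_aeval_data g hd E hp hpm, Nat.card_eq_fintype_card, Fintype.card_subtype,
    Finset.card_filter, Finset.mul_sum, Finset.mul_sum, ← Finset.sum_add_distrib,
    ← Finset.sum_add_distrib]
  apply Finset.sum_congr rfl
  intro i _
  by_cases hi : (d i).1 = p
  · rw [if_pos hi, if_pos hi, if_pos hi]
    by_cases hie : (d i).2 = e
    · have h1 : d i = (p, e) := Prod.ext hi hie
      rw [if_pos h1, hie, min_eq_right (by omega : e - 1 ≤ e), min_self,
        min_eq_left (by omega : e ≤ e + 1)]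
      have h2 : e = (e - 1) + 1 := by omega
      generalize e - 1 = e' at h2
      subst h2
      ring
    · have h1 : d i ≠ (p, e) := fun hh => hie (by rw [hh])
      rw [if_neg h1]
      rcases Nat.lt_or_gt_of_ne hie with hlt | hgt
      · rw [min_eq_left (by omega : (d i).2 ≤ e - 1), min_eq_left (by omega : (d i).2 ≤ e + 1),
          min_eq_left (by omega : (d i).2 ≤ e)]
        ring
      · rw [min_eq_right (by omega : e - 1 ≤ (d i).2), min_eq_right (by omega : e + 1 ≤ (d i).2),
          min_eq_right (by omega : e ≤ (d i).2)]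
        have h2 : e = (e - 1) + 1 := by omega
        generalize e - 1 = e' at h2
        subst h2
        ring
  · have h1 : d i ≠ (p, e) := fun hh => hi (by rw [hh])
    rw [if_neg hi, if_neg hi, if_neg hi, if_neg h1]
    simp

end Cfsg.Agent.SLk
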